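import Mathlib

set_option autoImplicit false

namespace Cfsg.Agent.Helper27.SpD1

open Matrix

section count

variable {ι : Type*} [Fintype ι] [DecidableEq ι] {F : Type*} [Field F]

theorem pow_inv (X : Matrix ι ι F) (N : Submodule F (ι → F)) (hN : ∀ v ∈ N, X *ᵥ v ∈ N) (k : ℕ) :
    ∀ v ∈ N, (X ^ k) *ᵥ v ∈ N := by
  induction k with
  | zero =>
    intro v hv
    simpa using hv
  | succ k ih =>
    intro v hv
    rw [pow_succ, ← Matrix.mulVec_mulVec]
    exact ih _ (hN v hv)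

/-- A matrix of prime order `r` acting without nonzero fixed vectors on an invariant subspace:
the number of nonzero vectors of the subspace is divisible by `r`. -/
theorem free_count [Fintype F] (X : Matrix ι ι F) (r : ℕ) [Fact r.Prime] (hX : X ^ r = 1)
    (N : Submodule F (ι → F)) (hN : ∀ v ∈ N, X *ᵥ v ∈ N)
    (hfix : ∀ v ∈ N, X *ᵥ v = v → v = 0) :
    r ∣ Fintype.card F ^ Module.finrank F N - 1 := by
  classical
  let f : Function.End ↥N := fun v => ⟨X *ᵥ (v : ι → F), hN v v.2⟩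
  have hpow : ∀ k : ℕ, ∀ v : ↥N, ((f ^ k) v : ι → F) = (X ^ k) *ᵥ (v : ι → F) := by
    intro k
    induction k with
    | zero =>
      intro v
      rw [pow_zero, pow_zero, Matrix.one_mulVec]
      rfl
    | succ k ih =>
      intro v
      have h1 : (f ^ (k + 1)) v = (f ^ k) (f v) := by
        rw [pow_succ]
        rfl
      rw [h1, ih, pow_succ, ← Matrix.mulVec_mulVec]
  have hf : f ^ r ^ 1 = 1 := by
    rw [pow_one]
    funext v
    apply Subtype.ext
    rw [hpow, hX, Matrix.one_mulVec]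
    rfl
  have h1 := Equiv.Perm.card_fixedPoints_modEq (p := r) (n := 1) hf
  have h2 : Fintype.card ↥(Function.fixedPoints f) = 1 := by
    rw [Fintype.card_eq_one_iff]
    refine ⟨⟨0, ?_⟩, ?_⟩
    · show f 0 = 0
      apply Subtype.ext
      show X *ᵥ ((0 : ↥N) : ι → F) = ((0 : ↥N) : ι → F)
      simp
    · rintro ⟨v, hv⟩
      apply Subtype.ext
      apply Subtype.ext
      have hv' : f v = v := hv
      have h3 : X *ᵥ (v : ι → F) = (v : ι → F) := congrArg Subtype.val hv'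
      exact hfix v v.2 h3
  rw [h2, Module.card_eq_pow_finrank (K := F)] at h1
  exact (Nat.modEq_iff_dvd' (Nat.one_le_pow _ _ Fintype.card_pos)).mp h1.symm

end count

/-- If `i` is minimal with `r ∣ q ^ i + 1` then `r ∣ q ^ k - 1` forces `2 * i ≤ k`. -/
theorem lemmaM (r q i : ℕ) [Fact r.Prime] (hr2 : r ≠ 2) (hq : 1 ≤ q)
    (hdvd : r ∣ q ^ i + 1) (hmin : ∀ j, 1 ≤ j → j < i → ¬ r ∣ q ^ j + 1) (k : ℕ) (hk : 1 ≤ k)
    (hk' : r ∣ q ^ k - 1) : 2 * i ≤ k := by
  by_contra hlt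
  push Not at hlt
  have hqi : ((q : ZMod r)) ^ i = -1 := by
    have h := (ZMod.natCast_eq_zero_iff (q ^ i + 1) r).mpr hdvd
    push_cast at h
    exact eq_neg_of_add_eq_zero_left h
  have hqk : ((q : ZMod r)) ^ k = 1 := by
    have h := (ZMod.natCast_eq_zero_iff (q ^ k - 1) r).mpr hk'
    rw [Nat.cast_sub (Nat.one_le_pow _ _ hq)] at h
    push_cast at h
    exact sub_eq_zero.mp h
  have hne : (-1 : ZMod r) ≠ 1 := by
    intro h
    have h2 : ((2 : ℕ) : ZMod r) = 0 := by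
      push_cast
      linear_combination -h
    have h3 := (ZMod.natCast_eq_zero_iff 2 r).mp h2
    exact hr2 ((Nat.prime_dvd_prime_iff_eq Fact.out Nat.prime_two).mp h3)
  have hqg : ((q : ZMod r)) ^ (Nat.gcd k (2 * i)) = 1 := by
    have h1 := orderOf_dvd_of_pow_eq_one hqk
    have h2 : ((q : ZMod r)) ^ (2 * i) = 1 := by
      rw [mul_comm, pow_mul, hqi]
      norm_num
    have h3 := orderOf_dvd_of_pow_eq_one h2
    exact orderOf_dvd_iff_pow_eq_one.mp (Nat.dvd_gcd h1 h3)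
  have hg_dvd : Nat.gcd k (2 * i) ∣ 2 * i := Nat.gcd_dvd_right _ _
  have hg_le : Nat.gcd k (2 * i) ≤ k := Nat.gcd_le_left _ hk
  have hg_pos : 0 < Nat.gcd k (2 * i) := Nat.gcd_pos_of_pos_left _ hk
  generalize Nat.gcd k (2 * i) = g at hqg hg_dvd hg_le hg_pos
  have hgi : ¬ g ∣ i := by
    rintro ⟨t, ht⟩
    have h5 : ((q : ZMod r)) ^ i = 1 := by rw [ht, pow_mul, hqg, one_pow]
    rw [hqi] at h5
    exact hne h5
  obtain ⟨j, hj⟩ : ∃ j, g = 2 * j := by
    rcases Nat.even_or_odd g with ⟨j, hj⟩ | hodd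
    · exact ⟨j, by omega⟩
    · exfalso
      have hcop : Nat.Coprime g 2 := Nat.coprime_two_right.mpr hodd
      exact hgi ((Nat.Coprime.dvd_mul_left hcop).mp hg_dvd)
  have hji : j ∣ i := by
    rw [hj] at hg_dvd
    exact (Nat.mul_dvd_mul_iff_left (by norm_num)).mp hg_dvd
  have hjlt : j < i := by omega
  have hj1 : 1 ≤ j := by omega
  have hsq : ((q : ZMod r)) ^ j * ((q : ZMod r)) ^ j = 1 := by
    rw [← pow_add, ← two_mul, ← hj]
    exact hqg
  rcases mul_self_eq_one_iff.mp hsq with h | h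
  · obtain ⟨t, ht⟩ := hji
    have h5 : ((q : ZMod r)) ^ i = 1 := by rw [ht, pow_mul, h, one_pow]
    rw [hqi] at h5
    exact hne h5
  · apply hmin j hj1 hjlt
    rw [← ZMod.natCast_eq_zero_iff]
    push_cast
    rw [h]
    ring

end Cfsg.Agent.Helper27.SpD1
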