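import Mathlib

set_option autoImplicit false

namespace Cfsg.Agent.Helper27.SpD2

open Matrix

variable {F : Type*} [Field F] (i k : ℕ)

/-- The index equivalence splitting off the first `i` hyperbolic pairs. -/
def rho : (Fin i ⊕ Fin i) ⊕ (Fin k ⊕ Fin k) ≃ Fin (i + k) ⊕ Fin (i + k) :=
  (Equiv.sumSumSumComm (Fin i) (Fin i) (Fin k) (Fin k)).trans
    (Equiv.sumCongr finSumFinEquiv finSumFinEquiv)

theorem J_split : (J (Fin (i + k)) F).submatrix (rho i k) (rho i k) =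
    fromBlocks (J (Fin i) F) 0 0 (J (Fin k) F) := by
  ext a b
  rcases a with (a | a) | (a | a) <;> rcases b with (b | b) | (b | b) <;>
    simp [rho, J, Matrix.one_apply, Fin.ext_iff]
  all_goals omega

/-- The block matrix `Y ⊕ 1`. -/
def bM (Y : Matrix (Fin i ⊕ Fin i) (Fin i ⊕ Fin i) F) :
    Matrix (Fin (i + k) ⊕ Fin (i + k)) (Fin (i + k) ⊕ Fin (i + k)) F :=
  (fromBlocks Y 0 0 1).submatrix (rho i k).symm (rho i k).symm

theorem bM_mul (Y₁ Y₂ : Matrix (Fin i ⊕ Fin i) (Fin i ⊕ Fin i) F) :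
    bM i k (Y₁ * Y₂) = bM i k Y₁ * bM i k Y₂ := by
  unfold bM
  rw [Matrix.submatrix_mul_equiv, fromBlocks_multiply]
  simp

theorem bM_one : bM i k (1 : Matrix (Fin i ⊕ Fin i) (Fin i ⊕ Fin i) F) = 1 := by
  unfold bM
  rw [fromBlocks_one, Matrix.submatrix_one_equiv]

theorem bM_mem (Y : Matrix (Fin i ⊕ Fin i) (Fin i ⊕ Fin i) F)
    (hY : Y ∈ symplecticGroup (Fin i) F) : bM i k Y ∈ symplecticGroup (Fin (i + k)) F := by
  rw [SymplecticGroup.mem_iff]
  have hJ : J (Fin (i + k)) F =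
      (fromBlocks (J (Fin i) F) 0 0 (J (Fin k) F)).submatrix (rho i k).symm (rho i k).symm := by
    rw [← J_split]
    simp
  rw [hJ]
  unfold bM
  rw [Matrix.transpose_submatrix, Matrix.submatrix_mul_equiv, Matrix.submatrix_mul_equiv,
    fromBlocks_transpose, fromBlocks_multiply, fromBlocks_multiply]
  have h1 := SymplecticGroup.mem_iff.mp hY
  simp [h1]

theorem bM_mulVec (Y : Matrix (Fin i ⊕ Fin i) (Fin i ⊕ Fin i) F)
    (v : Fin (i + k) ⊕ Fin (i + k) → F) :
    bM i k Y *ᵥ v = (Sum.elim (Y *ᵥ ((v ∘ rho i k) ∘ Sum.inl)) ((v ∘ rho i k) ∘ Sum.inr)) ∘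
      (rho i k).symm := by
  unfold bM
  rw [Matrix.submatrix_mulVec_equiv, fromBlocks_mulVec]
  simp

theorem ker_dim (Y : Matrix (Fin i ⊕ Fin i) (Fin i ⊕ Fin i) F) :
    2 * k ≤ Module.finrank F (LinearMap.ker (Matrix.toLin' (bM i k Y - 1))) := by
  have h1 : LinearMap.ker (LinearMap.funLeft F F
      ((rho i k) ∘ Sum.inl : Fin i ⊕ Fin i → Fin (i + k) ⊕ Fin (i + k))) ≤
      LinearMap.ker (Matrix.toLin' (bM i k Y - 1)) := by
    intro v hv
    rw [LinearMap.mem_ker] at hv ⊢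
    have hv' : (v ∘ rho i k) ∘ Sum.inl = 0 := hv
    rw [Matrix.toLin'_apply, Matrix.sub_mulVec, Matrix.one_mulVec, bM_mulVec, hv',
      Matrix.mulVec_zero, sub_eq_zero]
    funext c
    obtain ⟨c', rfl⟩ := (rho i k).surjective c
    rcases c' with c' | c'
    · simpa using (congrFun hv' c').symm
    · simp
  have h2 := LinearMap.finrank_range_add_finrank_ker (LinearMap.funLeft F F
      ((rho i k) ∘ Sum.inl : Fin i ⊕ Fin i → Fin (i + k) ⊕ Fin (i + k)))
  have h3 : LinearMap.range (LinearMap.funLeft F F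
      ((rho i k) ∘ Sum.inl : Fin i ⊕ Fin i → Fin (i + k) ⊕ Fin (i + k))) = ⊤ :=
    LinearMap.range_eq_top.mpr (LinearMap.funLeft_surjective_of_injective F F _
      ((rho i k).injective.comp Sum.inl_injective))
  rw [h3, finrank_top, Module.finrank_fintype_fun_eq_card, Module.finrank_fintype_fun_eq_card,
    Fintype.card_sum, Fintype.card_sum, Fintype.card_fin, Fintype.card_fin] at h2
  have h4 := Submodule.finrank_mono h1
  omega

theorem bM_eq_one (Y : Matrix (Fin i ⊕ Fin i) (Fin i ⊕ Fin i) F) (h : bM i k Y = 1) : Y = 1 := by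
  ext a b
  have h1 := congrFun (congrFun h (rho i k (Sum.inl a))) (rho i k (Sum.inl b))
  unfold bM at h1
  rw [Matrix.submatrix_apply, Equiv.symm_apply_apply, Equiv.symm_apply_apply,
    Matrix.fromBlocks_apply₁₁] at h1
  rw [h1, Matrix.one_apply, Matrix.one_apply]
  simp only [(rho i k).injective.eq_iff, Sum.inl.injEq]

/-- The block embedding of symplectic groups. -/
def bHom : ↥(symplecticGroup (Fin i) F) →* ↥(symplecticGroup (Fin (i + k)) F) where
  toFun y := ⟨bM i k (y : Matrix (Fin i ⊕ Fin i) (Fin i ⊕ Fin i) F), bM_mem i k _ y.2⟩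
  map_one' := Subtype.ext (bM_one i k)
  map_mul' _ _ := Subtype.ext (bM_mul i k _ _)

theorem bHom_val (y : ↥(symplecticGroup (Fin i) F)) :
    ((bHom i k y : ↥(symplecticGroup (Fin (i + k)) F)) :
      Matrix (Fin (i + k) ⊕ Fin (i + k)) (Fin (i + k) ⊕ Fin (i + k)) F) =
      bM i k (y : Matrix (Fin i ⊕ Fin i) (Fin i ⊕ Fin i) F) := rfl

end Cfsg.Agent.Helper27.SpD2
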