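import Mathlib
import Cfsg.Agent.S0245
import Cfsg.Agent.S0778
import Cfsg.Agent.Helper2.SpDarboux
import Cfsg.Agent.Helper16.SympInv

set_option autoImplicit false

namespace Cfsg.Agent.Helper27.SpD3

open Matrix

variable {F : Type*} [Field F] (d : ℕ)

/-- Totally isotropic subspaces. -/
def TI (U : Submodule F (Fin d ⊕ Fin d → F)) : Prop :=
  ∀ u ∈ U, ∀ v ∈ U, Cfsg.sympForm d F u v = 0

/-- The standard Lagrangian `⟨e_i⟩`. -/
def U0 : Submodule F (Fin d ⊕ Fin d → F) where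
  carrier := {v | ∀ i, v (Sum.inr i) = 0}
  add_mem' := fun {a b} ha hb i => by
    have h1 := ha i
    have h2 := hb i
    simp [h1, h2]
  zero_mem' := fun _ => rfl
  smul_mem' := fun c v hv i => by
    have h1 := hv i
    simp [h1]

/-- The standard Lagrangian `⟨f_i⟩`. -/
def W0 : Submodule F (Fin d ⊕ Fin d → F) where
  carrier := {v | ∀ i, v (Sum.inl i) = 0}
  add_mem' := fun {a b} ha hb i => by
    have h1 := ha i
    have h2 := hb i
    simp [h1, h2]
  zero_mem' := fun _ => rfl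
  smul_mem' := fun c v hv i => by
    have h1 := hv i
    simp [h1]

theorem mem_U0 (v : Fin d ⊕ Fin d → F) : v ∈ U0 (F := F) d ↔ ∀ i, v (Sum.inr i) = 0 := Iff.rfl

theorem mem_W0 (v : Fin d ⊕ Fin d → F) : v ∈ W0 (F := F) d ↔ ∀ i, v (Sum.inl i) = 0 := Iff.rfl

theorem symp_formula (u v : Fin d ⊕ Fin d → F) :
    Cfsg.sympForm d F u v =
      (u ∘ Sum.inr) ⬝ᵥ (v ∘ Sum.inl) - (u ∘ Sum.inl) ⬝ᵥ (v ∘ Sum.inr) := by
  unfold Cfsg.sympForm Matrix.J
  rw [Matrix.fromBlocks_mulVec]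
  simp [dotProduct, Fintype.sum_sum_type, Matrix.neg_mulVec, Finset.sum_neg_distrib]
  ring

theorem TI_U0 : TI d (U0 (F := F) d) := by
  intro u hu v hv
  have h1 : u ∘ Sum.inr = 0 := funext hu
  have h2 : v ∘ Sum.inr = 0 := funext hv
  rw [symp_formula, h1, h2]
  simp

theorem TI_W0 : TI d (W0 (F := F) d) := by
  intro u hu v hv
  have h1 : u ∘ Sum.inl = 0 := funext hu
  have h2 : v ∘ Sum.inl = 0 := funext hv
  rw [symp_formula, h1, h2]
  simp

theorem compl0 : IsCompl (U0 (F := F) d) (W0 (F := F) d) := by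
  rw [isCompl_iff]
  constructor
  · rw [Submodule.disjoint_def]
    intro v hv hw
    funext c
    rcases c with c | c
    · exact hw c
    · exact hv c
  · rw [codisjoint_iff, Submodule.eq_top_iff']
    intro v
    rw [Submodule.mem_sup]
    refine ⟨Sum.elim (v ∘ Sum.inl) 0, fun i => rfl, Sum.elim 0 (v ∘ Sum.inr), fun i => rfl, ?_⟩
    funext c
    rcases c with c | c <;> simp

theorem finrank_V : Module.finrank F (Fin d ⊕ Fin d → F) = 2 * d := by
  rw [Module.finrank_fintype_fun_eq_card, Fintype.card_sum, Fintype.card_fin]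
  omega

theorem finrank_TI_le (U : Submodule F (Fin d ⊕ Fin d → F)) (hU : TI d U) :
    Module.finrank F U ≤ d := by
  have h1 : U ≤ (S0766.sB d F).orthogonal U := by
    intro u hu
    rw [LinearMap.BilinForm.mem_orthogonal_iff]
    intro n hn
    show S0766.sB d F n u = 0
    rw [S0766.sB_apply]
    exact hU n hn u hu
  have h2 := Submodule.finrank_mono h1
  have h3 := LinearMap.BilinForm.finrank_orthogonal (S0766.sB_nondeg d F) U
  rw [finrank_V] at h3
  omega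

theorem finrank_pair (U W : Submodule F (Fin d ⊕ Fin d → F)) (hc : IsCompl U W)
    (hU : TI d U) (hW : TI d W) : Module.finrank F U = d ∧ Module.finrank F W = d := by
  have h1 := finrank_TI_le d U hU
  have h2 := finrank_TI_le d W hW
  have h3 := Submodule.finrank_add_eq_of_isCompl hc
  rw [finrank_V] at h3
  omega

theorem toLin_inj (M : ↥(symplecticGroup (Fin d) F)) :
    Function.Injective (Matrix.toLin' (M : Matrix (Fin d ⊕ Fin d) (Fin d ⊕ Fin d) F)) := by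
  have h : Function.LeftInverse
      (Matrix.toLin' ((M⁻¹ : ↥(symplecticGroup (Fin d) F)) :
        Matrix (Fin d ⊕ Fin d) (Fin d ⊕ Fin d) F))
      (Matrix.toLin' (M : Matrix (Fin d ⊕ Fin d) (Fin d ⊕ Fin d) F)) := by
    intro v
    rw [Matrix.toLin'_apply, Matrix.toLin'_apply, Matrix.mulVec_mulVec]
    have h1 : ((M⁻¹ : ↥(symplecticGroup (Fin d) F)) :
        Matrix (Fin d ⊕ Fin d) (Fin d ⊕ Fin d) F) *
        (M : Matrix (Fin d ⊕ Fin d) (Fin d ⊕ Fin d) F) = 1 := by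
      have h2 := congrArg (Subtype.val) (inv_mul_cancel M)
      exact h2
    rw [h1, Matrix.one_mulVec]
  exact h.injective

theorem map_eq_of_mem (M : ↥(symplecticGroup (Fin d) F)) (U : Submodule F (Fin d ⊕ Fin d → F))
    (h : ∀ v ∈ U, (M : Matrix (Fin d ⊕ Fin d) (Fin d ⊕ Fin d) F) *ᵥ v ∈ U) :
    U.map (Matrix.toLin' (M : Matrix (Fin d ⊕ Fin d) (Fin d ⊕ Fin d) F)) = U := by
  have hle : U.map (Matrix.toLin' (M : Matrix (Fin d ⊕ Fin d) (Fin d ⊕ Fin d) F)) ≤ U := by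
    rintro _ ⟨v, hv, rfl⟩
    rw [Matrix.toLin'_apply]
    exact h v hv
  exact Submodule.eq_of_le_of_finrank_le hle
    (LinearEquiv.finrank_eq (Submodule.equivMapOfInjective _ (toLin_inj d M) U)).le

theorem map_eq_of_le_finrank (M : ↥(symplecticGroup (Fin d) F))
    (U U' : Submodule F (Fin d ⊕ Fin d → F))
    (h : ∀ v ∈ U, (M : Matrix (Fin d ⊕ Fin d) (Fin d ⊕ Fin d) F) *ᵥ v ∈ U')
    (hfr : Module.finrank F U' ≤ Module.finrank F U) :
    U.map (Matrix.toLin' (M : Matrix (Fin d ⊕ Fin d) (Fin d ⊕ Fin d) F)) = U' := by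
  have hle : U.map (Matrix.toLin' (M : Matrix (Fin d ⊕ Fin d) (Fin d ⊕ Fin d) F)) ≤ U' := by
    rintro _ ⟨v, hv, rfl⟩
    rw [Matrix.toLin'_apply]
    exact h v hv
  refine Submodule.eq_of_le_of_finrank_le hle ?_
  rw [← LinearEquiv.finrank_eq (Submodule.equivMapOfInjective _ (toLin_inj d M) U)]
  exact hfr

theorem single_form (a b : Fin d ⊕ Fin d) :
    S0766.sB d F (Pi.single a 1) (Pi.single b 1) = J (Fin d) F a b := by
  rw [S0766.sB_apply]
  unfold Cfsg.sympForm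
  rw [single_dotProduct, one_mul, Matrix.mulVec_single_one]
  rfl

theorem isCompl_map (M : ↥(symplecticGroup (Fin d) F))
    (U W : Submodule F (Fin d ⊕ Fin d → F)) (h : IsCompl U W) :
    IsCompl (U.map (Matrix.toLin' (M : Matrix (Fin d ⊕ Fin d) (Fin d ⊕ Fin d) F)))
      (W.map (Matrix.toLin' (M : Matrix (Fin d ⊕ Fin d) (Fin d ⊕ Fin d) F))) := by
  have hinj := toLin_inj d M
  have hsurj : Function.Surjective
      (Matrix.toLin' (M : Matrix (Fin d ⊕ Fin d) (Fin d ⊕ Fin d) F)) :=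
    LinearMap.injective_iff_surjective.1 hinj
  rw [isCompl_iff]
  constructor
  · rw [Submodule.disjoint_def]
    rintro _ ⟨u, hu, rfl⟩ ⟨w, hw, hwu⟩
    have hwu' : w = u := hinj hwu
    subst hwu'
    have h0 : w = 0 := (Submodule.disjoint_def.1 h.disjoint) w hu hw
    rw [h0, map_zero]
  · rw [codisjoint_iff, Submodule.eq_top_iff']
    intro v
    obtain ⟨v', rfl⟩ := hsurj v
    have hv' : v' ∈ U ⊔ W := by rw [h.sup_eq_top]; trivial
    obtain ⟨u, hu, w, hw, rfl⟩ := Submodule.mem_sup.1 hv'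
    rw [map_add]
    exact Submodule.add_mem_sup (Submodule.mem_map_of_mem hu) (Submodule.mem_map_of_mem hw)

theorem TI_map (M : ↥(symplecticGroup (Fin d) F))
    (U : Submodule F (Fin d ⊕ Fin d → F)) (h : TI d U) :
    TI d (U.map (Matrix.toLin' (M : Matrix (Fin d ⊕ Fin d) (Fin d ⊕ Fin d) F))) := by
  rintro _ ⟨u, hu, rfl⟩ _ ⟨v, hv, rfl⟩
  rw [Matrix.toLin'_apply, Matrix.toLin'_apply, Helper16.SympInv.symp_inv]
  exact h u hu v hv

/-- Transitivity of `Sp` on pairs of complementary totally isotropic subspaces. -/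
theorem trans_pair (U W : Submodule F (Fin d ⊕ Fin d → F)) (hc : IsCompl U W)
    (hU : TI d U) (hW : TI d W) :
    ∃ M : ↥(symplecticGroup (Fin d) F),
      (U0 d).map (Matrix.toLin' (M : Matrix (Fin d ⊕ Fin d) (Fin d ⊕ Fin d) F)) = U ∧
      (W0 d).map (Matrix.toLin' (M : Matrix (Fin d ⊕ Fin d) (Fin d ⊕ Fin d) F)) = W := by
  classical
  obtain ⟨hdU, hdW⟩ := finrank_pair d U W hc hU hW
  obtain ⟨hdU0, hdW0⟩ := finrank_pair d _ _ (compl0 (F := F) d) (TI_U0 d) (TI_W0 d)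
  have skew : ∀ a b : Fin d ⊕ Fin d → F, S0766.sB d F a b = - S0766.sB d F b a :=
    fun a b => ((S0766.sB_alt d F).neg_eq b a).symm
  let bU : Module.Basis (Fin d) F U := Module.finBasisOfFinrankEq F U hdU
  let φ : W →ₗ[F] (Fin d → F) :=
    LinearMap.pi (fun j => (S0766.sB d F (bU j : Fin d ⊕ Fin d → F)).comp W.subtype)
  have hφ : ∀ (w : W) (j : Fin d),
      φ w j = S0766.sB d F (bU j : Fin d ⊕ Fin d → F) (w : Fin d ⊕ Fin d → F) := fun w j => rfl
  have hφinj : Function.Injective φ := by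
    rw [← LinearMap.ker_eq_bot, Submodule.eq_bot_iff]
    intro w hw
    rw [LinearMap.mem_ker] at hw
    have h1 : ∀ u : U, S0766.sB d F (u : Fin d ⊕ Fin d → F) (w : Fin d ⊕ Fin d → F) = 0 := by
      have h2 : ((S0766.sB d F).flip (w : Fin d ⊕ Fin d → F)).comp U.subtype = 0 := by
        apply bU.ext
        intro j
        have h3 := congrFun hw j
        rw [hφ] at h3
        simpa using h3
      intro u
      have h4 := LinearMap.congr_fun h2 u
      simpa using h4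
    have h3 : ∀ v, S0766.sB d F v (w : Fin d ⊕ Fin d → F) = 0 := by
      intro v
      have hv : v ∈ U ⊔ W := by rw [hc.sup_eq_top]; trivial
      obtain ⟨u, hu, w', hw', rfl⟩ := Submodule.mem_sup.1 hv
      rw [map_add, LinearMap.add_apply, h1 ⟨u, hu⟩, zero_add, S0766.sB_apply]
      exact hW w' hw' w w.2
    have h4 := (S0766.sB_nondeg d F).2 (w : Fin d ⊕ Fin d → F) h3
    exact Subtype.ext h4
  have hφsurj : Function.Surjective φ := by
    refine (LinearMap.injective_iff_surjective_of_finrank_eq_finrank ?_).1 hφinj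
    rw [hdW, Module.finrank_fintype_fun_eq_card, Fintype.card_fin]
  choose w hw using fun j : Fin d =>
    hφsurj (fun i => S0766.sB d F (Pi.single (Sum.inl i) 1) (Pi.single (Sum.inr j) 1))
  let x : Fin d ⊕ Fin d → (Fin d ⊕ Fin d → F) := fun c => Pi.single c 1
  let y : Fin d ⊕ Fin d → (Fin d ⊕ Fin d → F) :=
    Sum.elim (fun i => (bU i : Fin d ⊕ Fin d → F)) (fun j => (w j : Fin d ⊕ Fin d → F))
  have hx : LinearIndependent F x := by
    have h1 := (Pi.basisFun F (Fin d ⊕ Fin d)).linearIndependent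
    convert h1 using 1
    funext c
    simp [x]
  have hxy : ∀ a b, S0766.sB d F (y a) (y b) = S0766.sB d F (x a) (x b) := by
    intro a b
    rcases a with i | i <;> rcases b with j | j
    · show S0766.sB d F (bU i : Fin d ⊕ Fin d → F) (bU j : Fin d ⊕ Fin d → F) =
        S0766.sB d F (Pi.single (Sum.inl i) 1) (Pi.single (Sum.inl j) 1)
      rw [single_form, S0766.sB_apply, hU _ (bU i).2 _ (bU j).2]
      simp [J]
    · exact congrFun (hw j) i
    · show S0766.sB d F (w i : Fin d ⊕ Fin d → F) (bU j : Fin d ⊕ Fin d → F) =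
        S0766.sB d F (Pi.single (Sum.inr i) 1) (Pi.single (Sum.inl j) 1)
      rw [skew, skew (Pi.single (Sum.inr i) 1)]
      congr 1
      exact congrFun (hw i) j
    · show S0766.sB d F (w i : Fin d ⊕ Fin d → F) (w j : Fin d ⊕ Fin d → F) =
        S0766.sB d F (Pi.single (Sum.inr i) 1) (Pi.single (Sum.inr j) 1)
      rw [single_form, S0766.sB_apply, hW _ (w i).2 _ (w j).2]
      simp [J]
  have hJ : ∀ a b, S0766.sB d F (y a) (y b) = J (Fin d) F a b := fun a b => by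
    rw [hxy]
    exact single_form d a b
  have hy : LinearIndependent F y := by
    refine Helper16.SympInv.li_of_dual (S0766.sB d F) y (y ∘ Sum.swap) ?_ ?_
    · intro a b hab
      show S0766.sB d F (y a) (y (Sum.swap b)) = 0
      rw [hJ]
      rcases a with a | a <;> rcases b with b | b
      · have hne : a ≠ b := fun h => hab (by rw [h])
        simp [J, hne]
      · simp [J]
      · simp [J]
      · have hne : a ≠ b := fun h => hab (by rw [h])
        simp [J, hne]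
    · intro a
      show S0766.sB d F (y a) (y (Sum.swap a)) ≠ 0
      rw [hJ]
      rcases a with a | a <;> simp [J]
  obtain ⟨g, hgT, -, hmap⟩ := Helper2.SpDecomp.witt_fintype (S0766.sB d F)
    (S0766.sB_nondeg d F) (S0766.sB_alt d F) (S0766.Tset d F) (S0766.id_mem d F)
    (S0766.comp_mem d F) (S0766.transv_mem d F) x y hx hy hxy
  obtain ⟨M, -, hM⟩ := hgT
  have key : ∀ v : Fin d ⊕ Fin d → F,
      (M : Matrix (Fin d ⊕ Fin d) (Fin d ⊕ Fin d) F) *ᵥ v =
        ∑ i, v (Sum.inl i) • (bU i : Fin d ⊕ Fin d → F) +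
          ∑ j, v (Sum.inr j) • (w j : Fin d ⊕ Fin d → F) := by
    intro v
    rw [← hM]
    have hv : v = ∑ c, v c • x c := by
      funext a
      simp [x, Finset.sum_apply, Pi.single_apply]
    conv_lhs => rw [hv]
    rw [map_sum, Fintype.sum_sum_type]
    simp only [map_smul, hmap]
    rfl
  refine ⟨M, ?_, ?_⟩
  · refine map_eq_of_le_finrank d M (U0 d) U (fun v hv => ?_) (by rw [hdU, hdU0])
    rw [key v]
    have h0 : ∀ j, v (Sum.inr j) = 0 := hv
    simp only [h0, zero_smul, Finset.sum_const_zero, add_zero]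
    exact Submodule.sum_mem _ (fun i _ => U.smul_mem _ (bU i).2)
  · refine map_eq_of_le_finrank d M (W0 d) W (fun v hv => ?_) (by rw [hdW, hdW0])
    rw [key v]
    have h0 : ∀ j, v (Sum.inl j) = 0 := hv
    simp only [h0, zero_smul, Finset.sum_const_zero, zero_add]
    exact Submodule.sum_mem _ (fun i _ => W.smul_mem _ (w i).2)

/-- The action of `Sp` on pairs of subspaces. -/
@[reducible] noncomputable def pairAction : MulAction ↥(symplecticGroup (Fin d) F)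
    (Submodule F (Fin d ⊕ Fin d → F) × Submodule F (Fin d ⊕ Fin d → F)) where
  smul M P := (P.1.map (Matrix.toLin' (M : Matrix (Fin d ⊕ Fin d) (Fin d ⊕ Fin d) F)),
    P.2.map (Matrix.toLin' (M : Matrix (Fin d ⊕ Fin d) (Fin d ⊕ Fin d) F)))
  one_smul P := by
    show (P.1.map (Matrix.toLin' (1 : Matrix (Fin d ⊕ Fin d) (Fin d ⊕ Fin d) F)),
      P.2.map (Matrix.toLin' (1 : Matrix (Fin d ⊕ Fin d) (Fin d ⊕ Fin d) F))) = P
    rw [Matrix.toLin'_one, Submodule.map_id, Submodule.map_id]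
  mul_smul a b P := by
    show (P.1.map (Matrix.toLin' ((a : Matrix (Fin d ⊕ Fin d) (Fin d ⊕ Fin d) F) *
        (b : Matrix (Fin d ⊕ Fin d) (Fin d ⊕ Fin d) F))),
      P.2.map (Matrix.toLin' ((a : Matrix (Fin d ⊕ Fin d) (Fin d ⊕ Fin d) F) *
        (b : Matrix (Fin d ⊕ Fin d) (Fin d ⊕ Fin d) F)))) =
      ((P.1.map (Matrix.toLin' (b : Matrix (Fin d ⊕ Fin d) (Fin d ⊕ Fin d) F))).map
        (Matrix.toLin' (a : Matrix (Fin d ⊕ Fin d) (Fin d ⊕ Fin d) F)),
       (P.2.map (Matrix.toLin' (b : Matrix (Fin d ⊕ Fin d) (Fin d ⊕ Fin d) F))).map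
        (Matrix.toLin' (a : Matrix (Fin d ⊕ Fin d) (Fin d ⊕ Fin d) F)))
    rw [Matrix.toLin'_mul, Submodule.map_comp, Submodule.map_comp]

theorem psi_mem_U0 (X : Matrix.GeneralLinearGroup (Fin d) F) (v : Fin d ⊕ Fin d → F)
    (hv : v ∈ U0 (F := F) d) :
    ((S0778.psi d X : ↥(symplecticGroup (Fin d) F)) :
      Matrix (Fin d ⊕ Fin d) (Fin d ⊕ Fin d) F) *ᵥ v ∈ U0 (F := F) d := by
  have h1 : v ∘ Sum.inr = 0 := funext hv
  intro i
  rw [S0778.psi_val, Matrix.fromBlocks_mulVec, h1]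
  simp

theorem psi_mem_W0 (X : Matrix.GeneralLinearGroup (Fin d) F) (v : Fin d ⊕ Fin d → F)
    (hv : v ∈ W0 (F := F) d) :
    ((S0778.psi d X : ↥(symplecticGroup (Fin d) F)) :
      Matrix (Fin d ⊕ Fin d) (Fin d ⊕ Fin d) F) *ᵥ v ∈ W0 (F := F) d := by
  have h1 : v ∘ Sum.inl = 0 := funext hv
  intro i
  rw [S0778.psi_val, Matrix.fromBlocks_mulVec, h1]
  simp

/-- Orbit–stabiliser: the number of polar pairs times `|GL_d|` divides `|Sp_{2d}|`. -/
theorem count_dvd [Finite F] :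
    Nat.card {P : Submodule F (Fin d ⊕ Fin d → F) × Submodule F (Fin d ⊕ Fin d → F) //
        IsCompl P.1 P.2 ∧ (∀ u ∈ P.1, ∀ v ∈ P.1, Cfsg.sympForm d F u v = 0) ∧
          (∀ u ∈ P.2, ∀ v ∈ P.2, Cfsg.sympForm d F u v = 0)} *
      Nat.card (Matrix.GeneralLinearGroup (Fin d) F) ∣
      Nat.card ↥(symplecticGroup (Fin d) F) := by
  classical
  let _ := pairAction (F := F) d
  have horb : ∀ P : Submodule F (Fin d ⊕ Fin d → F) × Submodule F (Fin d ⊕ Fin d → F),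
      (IsCompl P.1 P.2 ∧ (∀ u ∈ P.1, ∀ v ∈ P.1, Cfsg.sympForm d F u v = 0) ∧
          (∀ u ∈ P.2, ∀ v ∈ P.2, Cfsg.sympForm d F u v = 0)) ↔
        P ∈ MulAction.orbit ↥(symplecticGroup (Fin d) F) (U0 (F := F) d, W0 (F := F) d) := by
    intro P
    constructor
    · rintro ⟨hc, hU, hW⟩
      obtain ⟨M, h1, h2⟩ := trans_pair d P.1 P.2 hc hU hW
      exact ⟨M, Prod.ext h1 h2⟩
    · rintro ⟨M, rfl⟩
      exact ⟨isCompl_map d M _ _ (compl0 d), TI_map d M _ (TI_U0 d), TI_map d M _ (TI_W0 d)⟩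
  rw [Nat.card_congr (Equiv.subtypeEquivRight horb)]
  have h1 := Nat.card_congr (MulAction.orbitProdStabilizerEquivGroup
    ↥(symplecticGroup (Fin d) F) (U0 (F := F) d, W0 (F := F) d))
  rw [Nat.card_prod] at h1
  rw [← h1]
  apply Nat.mul_dvd_mul_left
  have hmem : ∀ X : Matrix.GeneralLinearGroup (Fin d) F, S0778.psi d X ∈
      MulAction.stabilizer ↥(symplecticGroup (Fin d) F) (U0 (F := F) d, W0 (F := F) d) := by
    intro X
    rw [MulAction.mem_stabilizer_iff]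
    exact Prod.ext (map_eq_of_mem d _ _ (psi_mem_U0 d X)) (map_eq_of_mem d _ _ (psi_mem_W0 d X))
  exact Subgroup.card_dvd_of_injective ((S0778.psi d).codRestrict _ hmem)
    (MonoidHom.injective_codRestrict _ _ hmem |>.2 (S0778.psi_inj d))

/-- The number of polar pairs is even. -/
theorem even_count [Finite F] (hd : 1 ≤ d) :
    2 ∣ Nat.card {P : Submodule F (Fin d ⊕ Fin d → F) × Submodule F (Fin d ⊕ Fin d → F) //
        IsCompl P.1 P.2 ∧ (∀ u ∈ P.1, ∀ v ∈ P.1, Cfsg.sympForm d F u v = 0) ∧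
          (∀ u ∈ P.2, ∀ v ∈ P.2, Cfsg.sympForm d F u v = 0)} := by
  classical
  have : Fintype {P : Submodule F (Fin d ⊕ Fin d → F) × Submodule F (Fin d ⊕ Fin d → F) //
        IsCompl P.1 P.2 ∧ (∀ u ∈ P.1, ∀ v ∈ P.1, Cfsg.sympForm d F u v = 0) ∧
          (∀ u ∈ P.2, ∀ v ∈ P.2, Cfsg.sympForm d F u v = 0)} := Fintype.ofFinite _
  let σ : Function.End {P : Submodule F (Fin d ⊕ Fin d → F) × Submodule F (Fin d ⊕ Fin d → F) //
        IsCompl P.1 P.2 ∧ (∀ u ∈ P.1, ∀ v ∈ P.1, Cfsg.sympForm d F u v = 0) ∧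
          (∀ u ∈ P.2, ∀ v ∈ P.2, Cfsg.sympForm d F u v = 0)} :=
    fun P => ⟨(P.1.2, P.1.1), P.2.1.symm, P.2.2.2, P.2.2.1⟩
  have hσ : σ ^ 2 ^ 1 = 1 := by
    rw [pow_one, pow_two]
    rfl
  have : Fact (Nat.Prime 2) := ⟨Nat.prime_two⟩
  have h1 := Equiv.Perm.card_fixedPoints_modEq (p := 2) (n := 1) hσ
  have h2 : Fintype.card ↥(Function.fixedPoints σ) = 0 := by
    rw [Fintype.card_eq_zero_iff]
    refine ⟨fun P => ?_⟩
    obtain ⟨⟨⟨U, W⟩, hc, hU, hW⟩, hP⟩ := P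
    have hP' : σ ⟨(U, W), hc, hU, hW⟩ = ⟨(U, W), hc, hU, hW⟩ := hP
    have h3 : W = U := congrArg (fun Q => Q.1.1) hP'
    subst h3
    have h4 : W = ⊥ := disjoint_self.1 hc.disjoint
    have h5 := (finrank_pair d W W hc hU hW).1
    rw [h4, finrank_bot] at h5
    omega
  rw [h2] at h1
  rw [Nat.card_eq_fintype_card]
  exact (Nat.modEq_zero_iff_dvd).1 h1

theorem prod_split (q d : ℕ) (hq : 1 ≤ q) :
    ∏ i ∈ Finset.range d, (q ^ (2 * (i + 1)) - 1) =
      (∏ i ∈ Finset.range d, (q ^ (i + 1) - 1)) * ∏ i ∈ Finset.range d, (q ^ (i + 1) + 1) := by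
  rw [← Finset.prod_mul_distrib]
  refine Finset.prod_congr rfl (fun i _ => ?_)
  obtain ⟨b, hb⟩ : ∃ b, q ^ (i + 1) = b + 1 :=
    ⟨q ^ (i + 1) - 1, by have := Nat.one_le_pow (i + 1) q hq; omega⟩
  have h2 : q ^ (2 * (i + 1)) = (b + 1) ^ 2 := by rw [← hb, ← pow_mul, Nat.mul_comm]
  rw [h2, hb, Nat.add_sub_cancel]
  have h3 : (b + 1) ^ 2 = b * (b + 1 + 1) + 1 := by ring
  rw [h3, Nat.add_sub_cancel]

theorem A_dvd_GL (q d : ℕ) :
    ∏ i ∈ Finset.range d, (q ^ (i + 1) - 1) ∣ ∏ i : Fin d, (q ^ d - q ^ (i : ℕ)) := by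
  have h := Finset.prod_range_reflect (fun i => q ^ d - q ^ i) d
  rw [Fin.prod_univ_eq_prod_range (fun i => q ^ d - q ^ i) d, ← h]
  apply Finset.prod_dvd_prod_of_dvd
  intro j hj
  rw [Finset.mem_range] at hj
  obtain ⟨m, hm⟩ : ∃ m, d = m + (j + 1) := ⟨d - 1 - j, by omega⟩
  have h1 : d - 1 - j = m := by omega
  show q ^ (j + 1) - 1 ∣ q ^ d - q ^ (d - 1 - j)
  rw [h1, hm, pow_add q m (j + 1), ← Nat.mul_sub_one]
  exact Dvd.intro_left _ rfl

theorem arith_core (q d r N : ℕ) (hq2 : 2 ≤ q) [Fact r.Prime] (hrq : ¬ r ∣ q) (h2 : 2 ∣ N)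
    (hr : r ∣ N / 2)
    (hdiv : N * ∏ i : Fin d, (q ^ d - q ^ (i : ℕ)) ∣
      q ^ (d ^ 2) * ∏ i ∈ Finset.range d, (q ^ (2 * (i + 1)) - 1)) :
    ∃ i, 1 ≤ i ∧ i ≤ d ∧ r ∣ q ^ i + 1 := by
  have hrP := (Fact.out : r.Prime)
  have hrN : r ∣ N := by
    obtain ⟨c, rfl⟩ := h2
    rw [Nat.mul_div_cancel_left c (by norm_num)] at hr
    exact Dvd.dvd.mul_left hr 2
  have hApos : 0 < ∏ i ∈ Finset.range d, (q ^ (i + 1) - 1) :=
    Finset.prod_pos (fun i _ => by
      have := Nat.one_lt_pow (n := i + 1) (by omega) (by omega : 1 < q)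
      omega)
  rw [prod_split q d (by omega)] at hdiv
  have h4 : (∏ i ∈ Finset.range d, (q ^ (i + 1) - 1)) * r ∣
      (∏ i ∈ Finset.range d, (q ^ (i + 1) - 1)) *
        (q ^ (d ^ 2) * ∏ i ∈ Finset.range d, (q ^ (i + 1) + 1)) := by
    have h5 := Nat.mul_dvd_mul (A_dvd_GL q d) hrN
    rw [Nat.mul_comm (∏ i : Fin d, (q ^ d - q ^ (i : ℕ))) N] at h5
    have h6 := h5.trans hdiv
    have h7 : q ^ (d ^ 2) * ((∏ i ∈ Finset.range d, (q ^ (i + 1) - 1)) *
        ∏ i ∈ Finset.range d, (q ^ (i + 1) + 1)) =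
        (∏ i ∈ Finset.range d, (q ^ (i + 1) - 1)) *
        (q ^ (d ^ 2) * ∏ i ∈ Finset.range d, (q ^ (i + 1) + 1)) := by ring
    rw [h7] at h6
    exact h6
  have h5 : r ∣ q ^ (d ^ 2) * ∏ i ∈ Finset.range d, (q ^ (i + 1) + 1) :=
    Nat.dvd_of_mul_dvd_mul_left hApos h4
  rcases (Nat.Prime.dvd_mul hrP).1 h5 with h6 | h6
  · exact absurd (hrP.dvd_of_dvd_pow h6) hrq
  · obtain ⟨i, hi, hdvd⟩ := (Prime.dvd_finsetProd_iff (Nat.Prime.prime hrP) _).1 h6
    have hi' := Finset.mem_range.1 hi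
    exact ⟨i + 1, by omega, by omega, hdvd⟩

/-- The arithmetic consequence of `r ∣ |Ω|`. -/
theorem exists_i [Fintype F] {p : ℕ} [Fact p.Prime] [CharP F p] {q : ℕ}
    (hq : Fintype.card F = q) (hd : 1 ≤ d) (r : ℕ) [Fact r.Prime] (hrp : r ≠ p)
    (hΩ : r ∣ Nat.card {P : Submodule F (Fin d ⊕ Fin d → F) × Submodule F (Fin d ⊕ Fin d → F) //
        IsCompl P.1 P.2 ∧ (∀ u ∈ P.1, ∀ v ∈ P.1, Cfsg.sympForm d F u v = 0) ∧
          (∀ u ∈ P.2, ∀ v ∈ P.2, Cfsg.sympForm d F u v = 0)} / 2) :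
    ∃ i, 1 ≤ i ∧ i ≤ d ∧ r ∣ q ^ i + 1 := by
  classical
  have hrP := (Fact.out : r.Prime)
  have hpP := (Fact.out : p.Prime)
  have hq2 : 2 ≤ q := by
    rw [← hq]
    exact Fintype.one_lt_card
  have hrq : ¬ r ∣ q := by
    obtain ⟨n, -, hcard⟩ := FiniteField.card F p
    rw [← hq, hcard]
    intro h
    exact hrp ((Nat.prime_dvd_prime_iff_eq hrP hpP).1 (hrP.dvd_of_dvd_pow h))
  have h1 := count_dvd (F := F) d
  rw [S0245.result hq d, Matrix.card_GL_field, hq] at h1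
  exact arith_core q d r _ hq2 hrq (even_count d hd) hΩ h1

end Cfsg.Agent.Helper27.SpD3
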