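import Mathlib
import Cfsg.Agent.Helper27.SpD1
import Cfsg.Agent.Helper27.SpD2
import Cfsg.Agent.Helper27.SpD3

set_option autoImplicit false

namespace Cfsg.Agent.Helper27.SpD4

open Matrix

variable {F : Type*} [Field F]

section alg

variable {ι : Type*} [Fintype ι] [DecidableEq ι]

/-- The geometric sum `1 + X + ⋯ + X^(r-1)`. -/
def gs (X : Matrix ι ι F) (r : ℕ) : Matrix ι ι F := ∑ j ∈ Finset.range r, X ^ j

theorem gs_succ (X : Matrix ι ι F) (r : ℕ) : gs X (r + 1) = gs X r + X ^ r := by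
  unfold gs
  rw [Finset.sum_range_succ]

theorem gs_mul (X : Matrix ι ι F) (r : ℕ) (hX : X ^ r = 1) : gs X r * (X - 1) = 0 := by
  unfold gs
  rw [geom_sum_mul, hX, sub_self]

theorem mul_gs (X : Matrix ι ι F) (r : ℕ) (hX : X ^ r = 1) : (X - 1) * gs X r = 0 := by
  unfold gs
  rw [mul_geom_sum, hX, sub_self]

theorem pow_fixed (X : Matrix ι ι F) (v : ι → F) (hv : X *ᵥ v = v) (k : ℕ) :
    (X ^ k) *ᵥ v = v := by
  induction k with
  | zero => simp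
  | succ k ih => rw [pow_succ, ← Matrix.mulVec_mulVec, hv, ih]

theorem gs_fixed (X : Matrix ι ι F) (r : ℕ) (v : ι → F) (hv : X *ᵥ v = v) :
    gs X r *ᵥ v = (r : F) • v := by
  induction r with
  | zero => simp [gs]
  | succ k ih =>
    rw [gs_succ, Matrix.add_mulVec, ih, pow_fixed X v hv, Nat.cast_succ, add_smul, one_smul]

theorem gs_range (X : Matrix ι ι F) (r : ℕ) (hX : X ^ r = 1) (v : ι → F)
    (hv : v ∈ LinearMap.range (Matrix.toLin' (X - 1))) : gs X r *ᵥ v = 0 := by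
  obtain ⟨u, rfl⟩ := hv
  rw [Matrix.toLin'_apply, Matrix.mulVec_mulVec, gs_mul X r hX, Matrix.zero_mulVec]

theorem gs_fix (X : Matrix ι ι F) (r : ℕ) (hX : X ^ r = 1) (v : ι → F) :
    X *ᵥ (gs X r *ᵥ v) = gs X r *ᵥ v := by
  have h := mul_gs X r hX
  rw [sub_mul, one_mul, sub_eq_zero] at h
  rw [Matrix.mulVec_mulVec, h]

theorem gs_inv (X : Matrix ι ι F) (r : ℕ) (N : Submodule F (ι → F))
    (hN : ∀ v ∈ N, X *ᵥ v ∈ N) (v : ι → F) (hv : v ∈ N) : gs X r *ᵥ v ∈ N := by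
  induction r with
  | zero => simp [gs]
  | succ k ih =>
    rw [gs_succ, Matrix.add_mulVec]
    exact N.add_mem ih (SpD1.pow_inv X N hN k v hv)

theorem key_mat (X : Matrix ι ι F) (r : ℕ) :
    (X - 1) * ∑ j ∈ Finset.range r, gs X j = gs X r - (r : F) • (1 : Matrix ι ι F) := by
  rw [Finset.mul_sum]
  have h : ∀ j ∈ Finset.range r, (X - 1) * gs X j = X ^ j - 1 := fun j _ => by
    unfold gs
    rw [mul_geom_sum]
  rw [Finset.sum_congr rfl h, Finset.sum_sub_distrib, Finset.sum_const, Finset.card_range,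
    Nat.cast_smul_eq_nsmul]
  rfl

theorem proj_mem (X : Matrix ι ι F) (r : ℕ) (hr : (r : F) ≠ 0) (v : ι → F) :
    v - (r : F)⁻¹ • (gs X r *ᵥ v) ∈ LinearMap.range (Matrix.toLin' (X - 1)) := by
  refine ⟨-(r : F)⁻¹ • ((∑ j ∈ Finset.range r, gs X j) *ᵥ v), ?_⟩
  rw [Matrix.toLin'_apply, Matrix.mulVec_smul, Matrix.mulVec_mulVec, key_mat, Matrix.sub_mulVec,
    Matrix.smul_mulVec, Matrix.one_mulVec, smul_sub, smul_smul, neg_mul, inv_mul_cancel₀ hr]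
  module

end alg

/-- An element of prime order `r` of `Sp_{2d}(q)` with small support, where `r` is a primitive
prime divisor of `q^{2i} - 1` dividing `q^i + 1`, fixes no pair of complementary totally
isotropic subspaces. -/
theorem no_fixed_pair [Fintype F] (d : ℕ)
    (X : Matrix (Fin d ⊕ Fin d) (Fin d ⊕ Fin d) F)
    (hsymp : ∀ u v, Cfsg.sympForm d F (X *ᵥ u) (X *ᵥ v) = Cfsg.sympForm d F u v)
    (r i : ℕ) [Fact r.Prime]
    (hr2 : r ≠ 2) (hrF : (r : F) ≠ 0) (hxr : X ^ r = 1) (hx1 : X ≠ 1)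
    (hdvd : r ∣ Fintype.card F ^ i + 1)
    (hmin : ∀ j, 1 ≤ j → j < i → ¬ r ∣ Fintype.card F ^ j + 1)
    (hker : 2 * d ≤ 2 * i + Module.finrank F (LinearMap.ker (Matrix.toLin' (X - 1))))
    (U W : Submodule F (Fin d ⊕ Fin d → F)) (hc : IsCompl U W)
    (hU : SpD3.TI d U) (hW : SpD3.TI d W)
    (hXU : ∀ v ∈ U, X *ᵥ v ∈ U) (hXW : ∀ v ∈ W, X *ᵥ v ∈ W) : False := by
  classical
  have hq1 : 1 ≤ Fintype.card F := Fintype.card_pos
  have hdimM : Module.finrank F (LinearMap.range (Matrix.toLin' (X - 1))) ≤ 2 * i := by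
    have h1 := LinearMap.finrank_range_add_finrank_ker (Matrix.toLin' (X - 1))
    rw [SpD3.finrank_V] at h1
    omega
  have hMinv : ∀ v ∈ LinearMap.range (Matrix.toLin' (X - 1)),
      X *ᵥ v ∈ LinearMap.range (Matrix.toLin' (X - 1)) := by
    rintro _ ⟨u, rfl⟩
    refine ⟨X *ᵥ u, ?_⟩
    rw [Matrix.toLin'_apply, Matrix.toLin'_apply, Matrix.mulVec_mulVec, Matrix.mulVec_mulVec]
    congr 1
    rw [sub_mul, mul_sub, one_mul, mul_one]
  have hMfix : ∀ v ∈ LinearMap.range (Matrix.toLin' (X - 1)), X *ᵥ v = v → v = 0 := by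
    intro v hv hfix
    have h1 := gs_fixed X r v hfix
    have h2 : gs X r *ᵥ v = 0 := gs_range X r hxr v hv
    rw [h2] at h1
    exact (smul_eq_zero.1 h1.symm).resolve_left hrF
  have hcase : ∀ N : Submodule F (Fin d ⊕ Fin d → F), (∀ v ∈ N, X *ᵥ v ∈ N) →
      N ⊓ LinearMap.range (Matrix.toLin' (X - 1)) = ⊥ ∨
        LinearMap.range (Matrix.toLin' (X - 1)) ≤ N := by
    intro N hN
    by_cases h0 : Module.finrank F ↥(N ⊓ LinearMap.range (Matrix.toLin' (X - 1))) = 0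
    · left
      exact Submodule.finrank_eq_zero.1 h0
    · right
      have h1 := SpD1.free_count X r hxr (N ⊓ LinearMap.range (Matrix.toLin' (X - 1)))
        (fun v hv => ⟨hN v hv.1, hMinv v hv.2⟩) (fun v hv => hMfix v hv.2)
      have h2 := SpD1.lemmaM r (Fintype.card F) i hr2 hq1 hdvd hmin _ (Nat.pos_of_ne_zero h0) h1
      have h3 : N ⊓ LinearMap.range (Matrix.toLin' (X - 1)) =
          LinearMap.range (Matrix.toLin' (X - 1)) :=
        Submodule.eq_of_le_of_finrank_le inf_le_right (by omega)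
      rw [← h3]
      exact inf_le_left
  have hsplit : LinearMap.range (Matrix.toLin' (X - 1)) ≤
      (U ⊓ LinearMap.range (Matrix.toLin' (X - 1))) ⊔
        (W ⊓ LinearMap.range (Matrix.toLin' (X - 1))) := by
    intro m hm
    have hmV : m ∈ U ⊔ W := by rw [hc.sup_eq_top]; trivial
    obtain ⟨u, hu, w, hw, rfl⟩ := Submodule.mem_sup.1 hmV
    have h1 : gs X r *ᵥ (u + w) = 0 := gs_range X r hxr _ hm
    have h2 : u + w = (u - (r : F)⁻¹ • (gs X r *ᵥ u)) + (w - (r : F)⁻¹ • (gs X r *ᵥ w)) := by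
      rw [Matrix.mulVec_add] at h1
      have h4 : (r : F)⁻¹ • (gs X r *ᵥ u) + (r : F)⁻¹ • (gs X r *ᵥ w) = 0 := by
        rw [← smul_add, h1, smul_zero]
      have h3 : u - (r : F)⁻¹ • (gs X r *ᵥ u) + (w - (r : F)⁻¹ • (gs X r *ᵥ w)) =
          u + w - ((r : F)⁻¹ • (gs X r *ᵥ u) + (r : F)⁻¹ • (gs X r *ᵥ w)) := by abel
      rw [h3, h4, sub_zero]
    rw [h2]
    exact Submodule.add_mem_sup
      ⟨U.sub_mem hu (U.smul_mem _ (gs_inv X r U hXU u hu)), proj_mem X r hrF u⟩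
      ⟨W.sub_mem hw (W.smul_mem _ (gs_inv X r W hXW w hw)), proj_mem X r hrF w⟩
  have hMTI : ∀ a ∈ LinearMap.range (Matrix.toLin' (X - 1)),
      ∀ b ∈ LinearMap.range (Matrix.toLin' (X - 1)), Cfsg.sympForm d F a b = 0 := by
    rcases hcase U hXU with h1 | h1
    · rcases hcase W hXW with h2 | h2
      · rw [h1, h2, sup_bot_eq, le_bot_iff] at hsplit
        intro a ha b hb
        rw [hsplit, Submodule.mem_bot] at ha
        rw [ha, ← S0766.sB_apply, map_zero, LinearMap.zero_apply]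
      · exact fun a ha b hb => hW a (h2 ha) b (h2 hb)
    · exact fun a ha b hb => hU a (h1 ha) b (h1 hb)
  have hMker : ∀ a ∈ LinearMap.range (Matrix.toLin' (X - 1)), ∀ c, X *ᵥ c = c →
      Cfsg.sympForm d F a c = 0 := by
    rintro _ ⟨u, rfl⟩ c hc'
    have h1 := hsymp u c
    rw [hc'] at h1
    rw [Matrix.toLin'_apply, Matrix.sub_mulVec, Matrix.one_mulVec, ← S0766.sB_apply, map_sub,
      LinearMap.sub_apply, S0766.sB_apply, S0766.sB_apply, h1, sub_self]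
  have hM0 : ∀ m ∈ LinearMap.range (Matrix.toLin' (X - 1)), m = 0 := by
    intro m hm
    apply (S0766.sB_nondeg d F).1 m
    intro v
    have hv : v = (r : F)⁻¹ • (gs X r *ᵥ v) + (v - (r : F)⁻¹ • (gs X r *ᵥ v)) := by abel
    rw [hv, map_add, map_smul, S0766.sB_apply, S0766.sB_apply,
      hMker m hm _ (gs_fix X r hxr v), hMTI m hm _ (proj_mem X r hrF v)]
    simp
  apply hx1
  have h1 : Matrix.toLin' (X - 1) = 0 := LinearMap.ext (fun v => hM0 _ ⟨v, rfl⟩)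
  have h2 : X - 1 = 0 := (LinearEquiv.map_eq_zero_iff Matrix.toLin').1 h1
  exact sub_eq_zero.1 h2

/-- No pair of complementary totally isotropic subspaces is fixed or swapped. -/
theorem no_pair [Fintype F] (d : ℕ) (hd : 1 ≤ d) (x : ↥(symplecticGroup (Fin d) F))
    (r i : ℕ) [Fact r.Prime] (hr2 : r ≠ 2) (hrF : (r : F) ≠ 0)
    (hxr : (x : Matrix (Fin d ⊕ Fin d) (Fin d ⊕ Fin d) F) ^ r = 1)
    (hx1 : (x : Matrix (Fin d ⊕ Fin d) (Fin d ⊕ Fin d) F) ≠ 1)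
    (hdvd : r ∣ Fintype.card F ^ i + 1)
    (hmin : ∀ j, 1 ≤ j → j < i → ¬ r ∣ Fintype.card F ^ j + 1)
    (hker : 2 * d ≤ 2 * i + Module.finrank F (LinearMap.ker
      (Matrix.toLin' ((x : Matrix (Fin d ⊕ Fin d) (Fin d ⊕ Fin d) F) - 1)))) :
    ¬ (∃ U W : Submodule F (Fin d ⊕ Fin d → F), IsCompl U W ∧
        (∀ u ∈ U, ∀ v ∈ U, Cfsg.sympForm d F u v = 0) ∧
        (∀ u ∈ W, ∀ v ∈ W, Cfsg.sympForm d F u v = 0) ∧
        ((U.map (Matrix.toLin' (x : Matrix (Fin d ⊕ Fin d) (Fin d ⊕ Fin d) F)) = U ∧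
          W.map (Matrix.toLin' (x : Matrix (Fin d ⊕ Fin d) (Fin d ⊕ Fin d) F)) = W) ∨
         (U.map (Matrix.toLin' (x : Matrix (Fin d ⊕ Fin d) (Fin d ⊕ Fin d) F)) = W ∧
          W.map (Matrix.toLin' (x : Matrix (Fin d ⊕ Fin d) (Fin d ⊕ Fin d) F)) = U))) := by
  have hmem : ∀ (A B : Submodule F (Fin d ⊕ Fin d → F)),
      A.map (Matrix.toLin' (x : Matrix (Fin d ⊕ Fin d) (Fin d ⊕ Fin d) F)) = B →
      ∀ v ∈ A, (x : Matrix (Fin d ⊕ Fin d) (Fin d ⊕ Fin d) F) *ᵥ v ∈ B := by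
    intro A B hAB v hv
    have h1 := Submodule.mem_map_of_mem
      (f := Matrix.toLin' (x : Matrix (Fin d ⊕ Fin d) (Fin d ⊕ Fin d) F)) hv
    rw [hAB, Matrix.toLin'_apply] at h1
    exact h1
  rintro ⟨U, W, hc, hU, hW, h | h⟩
  · obtain ⟨h1, h2⟩ := h
    exact no_fixed_pair d (x : Matrix (Fin d ⊕ Fin d) (Fin d ⊕ Fin d) F)
      (Helper16.SympInv.symp_inv d x) r i hr2 hrF hxr hx1 hdvd hmin hker U W hc hU hW
      (hmem U U h1) (hmem W W h2)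
  · obtain ⟨h1, h2⟩ := h
    have hUW := hmem U W h1
    have hWU := hmem W U h2
    have hsq : ∀ v ∈ U, ((x : Matrix (Fin d ⊕ Fin d) (Fin d ⊕ Fin d) F) ^ 2) *ᵥ v ∈ U := by
      intro v hv
      rw [pow_two, ← Matrix.mulVec_mulVec]
      exact hWU _ (hUW v hv)
    obtain ⟨m, hm⟩ := (Fact.out : r.Prime).odd_of_ne_two hr2
    have hXeq : ((x : Matrix (Fin d ⊕ Fin d) (Fin d ⊕ Fin d) F) ^ 2) ^ (m + 1) =
        (x : Matrix (Fin d ⊕ Fin d) (Fin d ⊕ Fin d) F) := by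
      have h3 : 2 * (m + 1) = r + 1 := by omega
      rw [← pow_mul, h3, pow_succ, hxr, one_mul]
    have hXU : ∀ v ∈ U, (x : Matrix (Fin d ⊕ Fin d) (Fin d ⊕ Fin d) F) *ᵥ v ∈ U := by
      intro v hv
      have h3 := SpD1.pow_inv _ U hsq (m + 1) v hv
      rw [hXeq] at h3
      exact h3
    have hU0 : U = ⊥ := by
      rw [Submodule.eq_bot_iff]
      intro v hv
      have h3 : (x : Matrix (Fin d ⊕ Fin d) (Fin d ⊕ Fin d) F) *ᵥ v ∈ U ⊓ W :=
        ⟨hXU v hv, hUW v hv⟩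
      rw [hc.inf_eq_bot, Submodule.mem_bot] at h3
      apply SpD3.toLin_inj d x
      rw [Matrix.toLin'_apply, h3, map_zero]
    have h5 := (SpD3.finrank_pair d U W hc hU hW).1
    rw [hU0, finrank_bot] at h5
    omega

/-- The element is not scalar, and fixes no polar pair. -/
theorem final [Fintype F] (d : ℕ) (hd : 1 ≤ d) (x : ↥(symplecticGroup (Fin d) F))
    (r i : ℕ) [Fact r.Prime] (hr2 : r ≠ 2) (hrF : (r : F) ≠ 0)
    (hxr : (x : Matrix (Fin d ⊕ Fin d) (Fin d ⊕ Fin d) F) ^ r = 1)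
    (hx1 : (x : Matrix (Fin d ⊕ Fin d) (Fin d ⊕ Fin d) F) ≠ 1)
    (hdvd : r ∣ Fintype.card F ^ i + 1)
    (hmin : ∀ j, 1 ≤ j → j < i → ¬ r ∣ Fintype.card F ^ j + 1)
    (hker : 2 * d ≤ 2 * i + Module.finrank F (LinearMap.ker
      (Matrix.toLin' ((x : Matrix (Fin d ⊕ Fin d) (Fin d ⊕ Fin d) F) - 1)))) :
    (∀ z : F, (x : Matrix (Fin d ⊕ Fin d) (Fin d ⊕ Fin d) F) ≠
        z • (1 : Matrix (Fin d ⊕ Fin d) (Fin d ⊕ Fin d) F)) ∧
    ¬ (∃ U W : Submodule F (Fin d ⊕ Fin d → F), IsCompl U W ∧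
        (∀ u ∈ U, ∀ v ∈ U, Cfsg.sympForm d F u v = 0) ∧
        (∀ u ∈ W, ∀ v ∈ W, Cfsg.sympForm d F u v = 0) ∧
        ((U.map (Matrix.toLin' (x : Matrix (Fin d ⊕ Fin d) (Fin d ⊕ Fin d) F)) = U ∧
          W.map (Matrix.toLin' (x : Matrix (Fin d ⊕ Fin d) (Fin d ⊕ Fin d) F)) = W) ∨
         (U.map (Matrix.toLin' (x : Matrix (Fin d ⊕ Fin d) (Fin d ⊕ Fin d) F)) = W ∧
          W.map (Matrix.toLin' (x : Matrix (Fin d ⊕ Fin d) (Fin d ⊕ Fin d) F)) = U))) := by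
  have hnp := no_pair d hd x r i hr2 hrF hxr hx1 hdvd hmin hker
  refine ⟨fun z hz => ?_, hnp⟩
  apply hnp
  refine ⟨SpD3.U0 d, SpD3.W0 d, SpD3.compl0 d, SpD3.TI_U0 d, SpD3.TI_W0 d, Or.inl ⟨?_, ?_⟩⟩
  · refine SpD3.map_eq_of_mem d x _ (fun v hv => ?_)
    rw [hz, Matrix.smul_mulVec, Matrix.one_mulVec]
    exact Submodule.smul_mem _ _ hv
  · refine SpD3.map_eq_of_mem d x _ (fun v hv => ?_)
    rw [hz, Matrix.smul_mulVec, Matrix.one_mulVec]
    exact Submodule.smul_mem _ _ hv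

/-- A minimal exponent. -/
theorem exists_min (q r d : ℕ) (h : ∃ i, 1 ≤ i ∧ i ≤ d ∧ r ∣ q ^ i + 1) :
    ∃ i, 1 ≤ i ∧ i ≤ d ∧ r ∣ q ^ i + 1 ∧ ∀ j, 1 ≤ j → j < i → ¬ r ∣ q ^ j + 1 := by
  classical
  obtain ⟨i₀, h1, h2, h3⟩ := h
  have hex : ∃ i, 1 ≤ i ∧ r ∣ q ^ i + 1 := ⟨i₀, h1, h3⟩
  refine ⟨Nat.find hex, (Nat.find_spec hex).1, le_trans (Nat.find_min' hex ⟨h1, h3⟩) h2,
    (Nat.find_spec hex).2, fun j hj1 hj2 hdvd => Nat.find_min hex hj2 ⟨hj1, hdvd⟩⟩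

/-- An element of order `r` in `Sp_{2i}(q)` when `r ∣ q^i + 1`. -/
theorem exists_order [Fintype F] (i r : ℕ) (hi : 1 ≤ i) [Fact r.Prime]
    (hdvd : r ∣ Fintype.card F ^ i + 1) :
    ∃ y : ↥(symplecticGroup (Fin i) F), orderOf y = r := by
  apply exists_prime_orderOf_dvd_card'
  rw [S0245.result (rfl : Fintype.card F = Fintype.card F) i,
    SpD3.prod_split _ _ Fintype.card_pos]
  apply Dvd.dvd.mul_left
  apply Dvd.dvd.mul_left
  have h1 : i - 1 ∈ Finset.range i := Finset.mem_range.2 (by omega)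
  have h2 := Finset.dvd_prod_of_mem (fun j => Fintype.card F ^ (j + 1) + 1) h1
  have h3 : i - 1 + 1 = i := by omega
  simp only [h3] at h2
  exact hdvd.trans h2

/-- The whole construction. -/
theorem construct [Fintype F] (d : ℕ) (hd : 1 ≤ d) (r : ℕ) [Fact r.Prime] (hr2 : r ≠ 2)
    (hrF : (r : F) ≠ 0) (hex : ∃ i, 1 ≤ i ∧ i ≤ d ∧ r ∣ Fintype.card F ^ i + 1) :
    ∃ x : ↥(symplecticGroup (Fin d) F),
      (∃ z : F, ((x ^ r : ↥(symplecticGroup (Fin d) F)) :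
        Matrix (Fin d ⊕ Fin d) (Fin d ⊕ Fin d) F) =
          z • (1 : Matrix (Fin d ⊕ Fin d) (Fin d ⊕ Fin d) F)) ∧
      (∀ z : F, (x : Matrix (Fin d ⊕ Fin d) (Fin d ⊕ Fin d) F) ≠
        z • (1 : Matrix (Fin d ⊕ Fin d) (Fin d ⊕ Fin d) F)) ∧
      ¬ (∃ U W : Submodule F (Fin d ⊕ Fin d → F), IsCompl U W ∧
        (∀ u ∈ U, ∀ v ∈ U, Cfsg.sympForm d F u v = 0) ∧
        (∀ u ∈ W, ∀ v ∈ W, Cfsg.sympForm d F u v = 0) ∧
        ((U.map (Matrix.toLin' (x : Matrix (Fin d ⊕ Fin d) (Fin d ⊕ Fin d) F)) = U ∧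
          W.map (Matrix.toLin' (x : Matrix (Fin d ⊕ Fin d) (Fin d ⊕ Fin d) F)) = W) ∨
         (U.map (Matrix.toLin' (x : Matrix (Fin d ⊕ Fin d) (Fin d ⊕ Fin d) F)) = W ∧
          W.map (Matrix.toLin' (x : Matrix (Fin d ⊕ Fin d) (Fin d ⊕ Fin d) F)) = U))) := by
  obtain ⟨i, hi1, hid, hdvd, hmin⟩ := exists_min _ r d hex
  obtain ⟨k, rfl⟩ : ∃ k, d = i + k := ⟨d - i, by omega⟩
  obtain ⟨y, hy⟩ := exists_order (F := F) i r hi1 hdvd
  have hxr : ((SpD2.bHom i k y : ↥(symplecticGroup (Fin (i + k)) F)) :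
      Matrix (Fin (i + k) ⊕ Fin (i + k)) (Fin (i + k) ⊕ Fin (i + k)) F) ^ r = 1 := by
    have h1 : (SpD2.bHom i k y) ^ r = 1 := by
      rw [← map_pow, ← hy, pow_orderOf_eq_one, map_one]
    have h2 := congrArg Subtype.val h1
    exact h2
  have hx1 : ((SpD2.bHom i k y : ↥(symplecticGroup (Fin (i + k)) F)) :
      Matrix (Fin (i + k) ⊕ Fin (i + k)) (Fin (i + k) ⊕ Fin (i + k)) F) ≠ 1 := by
    intro h
    rw [SpD2.bHom_val] at h
    have h1 := SpD2.bM_eq_one i k _ h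
    have h2 : y = 1 := Subtype.ext h1
    rw [h2, orderOf_one] at hy
    exact (Fact.out : r.Prime).one_lt.ne hy
  have hker : 2 * (i + k) ≤ 2 * i + Module.finrank F (LinearMap.ker (Matrix.toLin'
      (((SpD2.bHom i k y : ↥(symplecticGroup (Fin (i + k)) F)) :
        Matrix (Fin (i + k) ⊕ Fin (i + k)) (Fin (i + k) ⊕ Fin (i + k)) F) - 1))) := by
    have h1 := SpD2.ker_dim i k (y : Matrix (Fin i ⊕ Fin i) (Fin i ⊕ Fin i) F)
    rw [SpD2.bHom_val]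
    omega
  obtain ⟨hf1, hf2⟩ := final (i + k) hd (SpD2.bHom i k y) r i hr2 hrF hxr hx1 hdvd hmin hker
  refine ⟨SpD2.bHom i k y, ⟨1, ?_⟩, hf1, hf2⟩
  rw [one_smul]
  exact hxr

end Cfsg.Agent.Helper27.SpD4
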