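import Mathlib
import Cfsg.Agent.Helper27.SpD4

set_option autoImplicit false

namespace Cfsg.Agent.Helper27.SpE1

open Matrix

variable {F : Type*} [Field F]

/-- A subspace on which an alternating form is nondegenerate has even dimension. -/
theorem even_finrank {V : Type*} [AddCommGroup V] [Module F V] [FiniteDimensional F V]
    (B : LinearMap.BilinForm F V) (hB : B.IsAlt) (W : Submodule F V)
    (hW : ∀ a ∈ W, a ≠ 0 → ∃ w ∈ W, B a w ≠ 0) : Even (Module.finrank F W) := by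
  obtain ⟨j, p, q, h, -, -, hspan⟩ := Helper2.SpDecomp.darboux B hB W hW
  have h1 := finrank_span_eq_card (Helper2.SpDecomp.hyp_li B p q h)
  rw [hspan] at h1
  rw [h1, Fintype.card_sum, Fintype.card_fin]
  exact ⟨j, rfl⟩

section mat

variable {ι : Type*} [Fintype ι] [DecidableEq ι]

/-- A matrix of order dividing the characteristic fixes a nonzero vector of every nonzero
invariant subspace. -/
theorem fixed_vec [Fintype F] (p : ℕ) [Fact p.Prime] [CharP F p] (B : Matrix ι ι F)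
    (hB : B ^ p = 1) (W : Submodule F (ι → F)) (hW : ∀ v ∈ W, B *ᵥ v ∈ W) (hW0 : W ≠ ⊥) :
    ∃ w ∈ W, w ≠ 0 ∧ B *ᵥ w = w := by
  by_contra hcon
  push Not at hcon
  have h1 := SpD1.free_count B p hB W hW
    (fun v hv hfix => by_contra (fun h0 => hcon v hv h0 hfix))
  obtain ⟨f, -, hcard⟩ := FiniteField.card F p
  have hpos : 0 < Module.finrank F W :=
    Nat.pos_of_ne_zero (fun h => hW0 (Submodule.finrank_eq_zero.1 h))
  have h2 : p ∣ Fintype.card F ^ Module.finrank F W := by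
    rw [hcard]
    exact dvd_pow (dvd_pow_self p f.ne_zero) hpos.ne'
  have h3 : 1 ≤ Fintype.card F ^ Module.finrank F W := Nat.one_le_pow _ _ Fintype.card_pos
  have h4 : Fintype.card F ^ Module.finrank F W =
      (Fintype.card F ^ Module.finrank F W - 1) + 1 := by omega
  rw [h4] at h2
  have h5 : p ∣ 1 := (Nat.dvd_add_right h1).1 h2
  exact (Fact.out : p.Prime).one_lt.ne' (Nat.dvd_one.1 h5)

/-- The order of `q` modulo `r` divides the dimension of an invariant subspace on which a matrix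
of order `r` has no nonzero fixed vector. -/
theorem k_dvd [Fintype F] (A : Matrix ι ι F) (r : ℕ) [Fact r.Prime] (hA : A ^ r = 1)
    (W : Submodule F (ι → F)) (hW : ∀ v ∈ W, A *ᵥ v ∈ W)
    (hfix : ∀ v ∈ W, A *ᵥ v = v → v = 0) :
    orderOf ((Fintype.card F : ℕ) : ZMod r) ∣ Module.finrank F W := by
  have h1 := SpD1.free_count A r hA W hW hfix
  apply orderOf_dvd_of_pow_eq_one
  have h2 := (ZMod.natCast_eq_zero_iff (Fintype.card F ^ Module.finrank F W - 1) r).2 h1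
  rw [Nat.cast_sub (Nat.one_le_pow _ _ Fintype.card_pos), Nat.cast_pow, Nat.cast_one,
    sub_eq_zero] at h2
  exact h2

theorem comm_range (A B : Matrix ι ι F) (hAB : A * B = B * A) :
    ∀ v ∈ LinearMap.range (Matrix.toLin' (A - 1)),
      B *ᵥ v ∈ LinearMap.range (Matrix.toLin' (A - 1)) := by
  rintro _ ⟨u, rfl⟩
  refine ⟨B *ᵥ u, ?_⟩
  rw [Matrix.toLin'_apply, Matrix.toLin'_apply, Matrix.mulVec_mulVec, Matrix.mulVec_mulVec]
  congr 1
  rw [sub_mul, mul_sub, one_mul, mul_one, hAB]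

theorem mem_ker_iff (A : Matrix ι ι F) (v : ι → F) :
    v ∈ LinearMap.ker (Matrix.toLin' (A - 1)) ↔ A *ᵥ v = v := by
  rw [LinearMap.mem_ker, Matrix.toLin'_apply, Matrix.sub_mulVec, Matrix.one_mulVec, sub_eq_zero]

theorem comm_ker (A B : Matrix ι ι F) (hAB : A * B = B * A) :
    ∀ v ∈ LinearMap.ker (Matrix.toLin' (A - 1)),
      B *ᵥ v ∈ LinearMap.ker (Matrix.toLin' (A - 1)) := by
  intro v hv
  rw [mem_ker_iff] at hv ⊢
  rw [Matrix.mulVec_mulVec, hAB, ← Matrix.mulVec_mulVec, hv]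

/-- Fitting-type decomposition for a matrix of order prime to the characteristic. -/
theorem decomp (X : Matrix ι ι F) (r : ℕ) (hr : (r : F) ≠ 0) (hX : X ^ r = 1) (v : ι → F) :
    ∃ c m, X *ᵥ c = c ∧ m ∈ LinearMap.range (Matrix.toLin' (X - 1)) ∧ v = c + m := by
  refine ⟨(r : F)⁻¹ • (SpD4.gs X r *ᵥ v), v - (r : F)⁻¹ • (SpD4.gs X r *ᵥ v), ?_,
    SpD4.proj_mem X r hr v, by abel⟩
  rw [Matrix.mulVec_smul, SpD4.gs_fix X r hX]

theorem range_fix (X : Matrix ι ι F) (r : ℕ) (hr : (r : F) ≠ 0) (hX : X ^ r = 1) :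
    ∀ v ∈ LinearMap.range (Matrix.toLin' (X - 1)), X *ᵥ v = v → v = 0 := by
  intro v hv hfix
  have h1 := SpD4.gs_fixed X r v hfix
  have h2 : SpD4.gs X r *ᵥ v = 0 := SpD4.gs_range X r hX v hv
  rw [h2] at h1
  exact (smul_eq_zero.1 h1.symm).resolve_left hr

end mat

section symp

variable (d : ℕ)

theorem range_perp_ker (X : Matrix (Fin d ⊕ Fin d) (Fin d ⊕ Fin d) F)
    (hsymp : ∀ u v, Cfsg.sympForm d F (X *ᵥ u) (X *ᵥ v) = Cfsg.sympForm d F u v)
    (a : Fin d ⊕ Fin d → F) (ha : a ∈ LinearMap.range (Matrix.toLin' (X - 1)))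
    (c : Fin d ⊕ Fin d → F) (hc : X *ᵥ c = c) : Cfsg.sympForm d F a c = 0 := by
  obtain ⟨u, rfl⟩ := ha
  have h1 := hsymp u c
  rw [hc] at h1
  rw [Matrix.toLin'_apply, Matrix.sub_mulVec, Matrix.one_mulVec, ← S0766.sB_apply, map_sub,
    LinearMap.sub_apply, S0766.sB_apply, S0766.sB_apply, h1, sub_self]

theorem skew (a b : Fin d ⊕ Fin d → F) : Cfsg.sympForm d F a b = - Cfsg.sympForm d F b a := by
  rw [← S0766.sB_apply, ← S0766.sB_apply]
  exact ((S0766.sB_alt d F).neg_eq b a).symm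

theorem nondeg_range (X : Matrix (Fin d ⊕ Fin d) (Fin d ⊕ Fin d) F)
    (hsymp : ∀ u v, Cfsg.sympForm d F (X *ᵥ u) (X *ᵥ v) = Cfsg.sympForm d F u v)
    (r : ℕ) (hr : (r : F) ≠ 0) (hX : X ^ r = 1) :
    ∀ a ∈ LinearMap.range (Matrix.toLin' (X - 1)), a ≠ 0 →
      ∃ w ∈ LinearMap.range (Matrix.toLin' (X - 1)), S0766.sB d F a w ≠ 0 := by
  intro a ha ha0
  by_contra hcon
  push Not at hcon
  apply ha0
  apply (S0766.sB_nondeg d F).1 a
  intro v
  obtain ⟨c, m, hc, hm, rfl⟩ := decomp X r hr hX v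
  rw [map_add, hcon m hm, add_zero, S0766.sB_apply]
  exact range_perp_ker d X hsymp a ha c hc

theorem nondeg_ker (X : Matrix (Fin d ⊕ Fin d) (Fin d ⊕ Fin d) F)
    (hsymp : ∀ u v, Cfsg.sympForm d F (X *ᵥ u) (X *ᵥ v) = Cfsg.sympForm d F u v)
    (r : ℕ) (hr : (r : F) ≠ 0) (hX : X ^ r = 1) :
    ∀ a ∈ LinearMap.ker (Matrix.toLin' (X - 1)), a ≠ 0 →
      ∃ w ∈ LinearMap.ker (Matrix.toLin' (X - 1)), S0766.sB d F a w ≠ 0 := by
  intro a ha ha0
  by_contra hcon
  push Not at hcon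
  apply ha0
  apply (S0766.sB_nondeg d F).1 a
  intro v
  obtain ⟨c, m, hc, hm, rfl⟩ := decomp X r hr hX v
  rw [map_add, hcon c ((mem_ker_iff X c).2 hc), zero_add, S0766.sB_apply, skew]
  rw [range_perp_ker d X hsymp m hm a ((mem_ker_iff X a).1 ha), neg_zero]

end symp

end Cfsg.Agent.Helper27.SpE1
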