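import Cfsg.Agent.Helper27.Census3

set_option autoImplicit false
open Cfsg

namespace Cfsg.Agent.Helper27

/-- coefficients of the reference minimal vector `(4, 4, 0, ..., 0)` -/
def Lt : List (ℕ × ℕ) := [(4,0),(4,0),(0,0),(0,0),(0,0),(0,0),(0,0),(0,0),(0,0),(0,0),(0,0),(0,0),(0,0),(0,0),(0,0),(0,0),(0,0),(0,0),(0,0),(0,0),(0,0),(0,0),(0,0),(0,0)]

/-- coefficients of the reference vector `(5, 1, ..., 1)` of sum of squares 48 -/
def L5 : List (ℕ × ℕ) := [(5,0),(1,0),(1,0),(1,0),(1,0),(1,0),(1,0),(1,0),(1,0),(1,0),(1,0),(1,0),(1,0),(1,0),(1,0),(1,0),(1,0),(1,0),(1,0),(1,0),(1,0),(1,0),(1,0),(1,0)]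

lemma Lt_len : Lt.length = 24 := rfl

lemma L5_len : L5.length = 24 := rfl

lemma Lt_snd : ∀ p, vC Prod.snd Lt p = 0 := by decide +kernel

lemma L5_snd : ∀ p, vC Prod.snd L5 p = 0 := by decide +kernel

/-- the reference minimal vector -/
def rt : leechLattice := ⟨vC Prod.fst Lt, mem_of_chk _ (by decide +kernel)⟩

/-- the reference vector of sum of squares 48 -/
def r5 : leechLattice := ⟨vC Prod.fst L5, mem_of_chk _ (by decide +kernel)⟩

lemma rt_norm : sqNorm rt.1 = 32 := by decide +kernel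

lemma r5_norm : sqNorm r5.1 = 48 := by decide +kernel

end Cfsg.Agent.Helper27
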