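import Cfsg.Agent.Helper27.Co0Basic
import Cfsg.Agent.Helper28.GolayCore

set_option autoImplicit false
open Cfsg

namespace Cfsg.Agent.Helper27

open Cfsg.Agent.Helper28.Golay (idx pt isCW maskOf mem_supports_iff_isCW)

/-- the vector with a given list of coordinates -/
def vecL (l : List Int) : GolayPt → ℤ := fun p => l.getD (idx p) 0

/-- a row of a matrix given as a list of lists -/
def rowL (M : List (List Int)) (j : GolayPt) : GolayPt → ℤ := vecL (M.getD (idx j) [])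

/-- a basis of the lattice -/
def Bl : List (List Int) :=
  [[1, 1, 1, 1, 1, 1, 1, 1, 1, 1, 1, 1, 1, 1, 1, 1, 1, 1, 1, 1, 1, 1, 1, 5],
   [0, 2, 0, 0, 0, 0, 0, 0, 0, 0, 0, 0, 2, 2, 2, 2, 2, 0, 0, 2, 0, 0, 2, 0],
   [0, 0, 2, 0, 0, 0, 0, 0, 0, 0, 0, 0, 2, 2, 0, 2, 0, 0, 2, 0, 2, 0, 2, 2],
   [0, 0, 0, 2, 0, 0, 0, 0, 0, 0, 0, 0, 2, 2, 0, 0, 0, 2, 2, 2, 0, 2, 2, 0],
   [0, 0, 0, 0, 2, 0, 0, 0, 0, 0, 0, 0, 2, 2, 0, 0, 2, 2, 0, 2, 2, 0, 0, 2],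
   [0, 0, 0, 0, 0, 2, 0, 0, 0, 0, 0, 0, 0, 2, 2, 0, 0, 2, 2, 0, 2, 2, 0, 2],
   [0, 0, 0, 0, 0, 0, 2, 0, 0, 0, 0, 0, 0, 0, 2, 2, 0, 0, 2, 2, 0, 2, 2, 2],
   [0, 0, 0, 0, 0, 0, 0, 2, 0, 0, 0, 0, 2, 0, 2, 2, 0, 2, 2, 2, 2, 0, 0, 0],
   [0, 0, 0, 0, 0, 0, 0, 0, 2, 0, 0, 0, 0, 2, 0, 2, 2, 0, 2, 2, 2, 2, 0, 0],
   [0, 0, 0, 0, 0, 0, 0, 0, 0, 2, 0, 0, 0, 0, 2, 0, 2, 2, 0, 2, 2, 2, 2, 0],
   [0, 0, 0, 0, 0, 0, 0, 0, 0, 0, 2, 0, 2, 0, 2, 2, 2, 0, 0, 0, 2, 2, 0, 2],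
   [0, 0, 0, 0, 0, 0, 0, 0, 0, 0, 0, 2, 0, 2, 0, 2, 2, 2, 0, 0, 0, 2, 2, 2],
   [0, 0, 0, 0, 0, 0, 0, 0, 0, 0, 0, 0, 4, 0, 0, 0, 0, 0, 0, 0, 0, 0, 0, 4],
   [0, 0, 0, 0, 0, 0, 0, 0, 0, 0, 0, 0, 0, 4, 0, 0, 0, 0, 0, 0, 0, 0, 0, 4],
   [0, 0, 0, 0, 0, 0, 0, 0, 0, 0, 0, 0, 0, 0, 4, 0, 0, 0, 0, 0, 0, 0, 0, 4],
   [0, 0, 0, 0, 0, 0, 0, 0, 0, 0, 0, 0, 0, 0, 0, 4, 0, 0, 0, 0, 0, 0, 0, 4],
   [0, 0, 0, 0, 0, 0, 0, 0, 0, 0, 0, 0, 0, 0, 0, 0, 4, 0, 0, 0, 0, 0, 0, 4],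
   [0, 0, 0, 0, 0, 0, 0, 0, 0, 0, 0, 0, 0, 0, 0, 0, 0, 4, 0, 0, 0, 0, 0, 4],
   [0, 0, 0, 0, 0, 0, 0, 0, 0, 0, 0, 0, 0, 0, 0, 0, 0, 0, 4, 0, 0, 0, 0, 4],
   [0, 0, 0, 0, 0, 0, 0, 0, 0, 0, 0, 0, 0, 0, 0, 0, 0, 0, 0, 4, 0, 0, 0, 4],
   [0, 0, 0, 0, 0, 0, 0, 0, 0, 0, 0, 0, 0, 0, 0, 0, 0, 0, 0, 0, 4, 0, 0, 4],
   [0, 0, 0, 0, 0, 0, 0, 0, 0, 0, 0, 0, 0, 0, 0, 0, 0, 0, 0, 0, 0, 4, 0, 4],
   [0, 0, 0, 0, 0, 0, 0, 0, 0, 0, 0, 0, 0, 0, 0, 0, 0, 0, 0, 0, 0, 0, 4, 4],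
   [0, 0, 0, 0, 0, 0, 0, 0, 0, 0, 0, 0, 0, 0, 0, 0, 0, 0, 0, 0, 0, 0, 0, 8]]

/-- the dual basis (scaled by 8) -/
def Dl : List (List Int) :=
  [[8, 0, 0, 0, 0, 0, 0, 0, 0, 0, 0, 0, 0, 0, 0, 0, 0, 0, 0, 0, 0, 0, 0, 0],
   [-4, 4, 0, 0, 0, 0, 0, 0, 0, 0, 0, 0, 0, 0, 0, 0, 0, 0, 0, 0, 0, 0, 0, 0],
   [-4, 0, 4, 0, 0, 0, 0, 0, 0, 0, 0, 0, 0, 0, 0, 0, 0, 0, 0, 0, 0, 0, 0, 0],
   [-4, 0, 0, 4, 0, 0, 0, 0, 0, 0, 0, 0, 0, 0, 0, 0, 0, 0, 0, 0, 0, 0, 0, 0],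
   [-4, 0, 0, 0, 4, 0, 0, 0, 0, 0, 0, 0, 0, 0, 0, 0, 0, 0, 0, 0, 0, 0, 0, 0],
   [-4, 0, 0, 0, 0, 4, 0, 0, 0, 0, 0, 0, 0, 0, 0, 0, 0, 0, 0, 0, 0, 0, 0, 0],
   [-4, 0, 0, 0, 0, 0, 4, 0, 0, 0, 0, 0, 0, 0, 0, 0, 0, 0, 0, 0, 0, 0, 0, 0],
   [-4, 0, 0, 0, 0, 0, 0, 4, 0, 0, 0, 0, 0, 0, 0, 0, 0, 0, 0, 0, 0, 0, 0, 0],
   [-4, 0, 0, 0, 0, 0, 0, 0, 4, 0, 0, 0, 0, 0, 0, 0, 0, 0, 0, 0, 0, 0, 0, 0],
   [-4, 0, 0, 0, 0, 0, 0, 0, 0, 4, 0, 0, 0, 0, 0, 0, 0, 0, 0, 0, 0, 0, 0, 0],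
   [-4, 0, 0, 0, 0, 0, 0, 0, 0, 0, 4, 0, 0, 0, 0, 0, 0, 0, 0, 0, 0, 0, 0, 0],
   [-4, 0, 0, 0, 0, 0, 0, 0, 0, 0, 0, 4, 0, 0, 0, 0, 0, 0, 0, 0, 0, 0, 0, 0],
   [10, -2, -2, -2, -2, 0, 0, -2, 0, 0, -2, 0, 2, 0, 0, 0, 0, 0, 0, 0, 0, 0, 0, 0],
   [12, -2, -2, -2, -2, -2, 0, 0, -2, 0, 0, -2, 0, 2, 0, 0, 0, 0, 0, 0, 0, 0, 0, 0],
   [10, -2, 0, 0, 0, -2, -2, -2, 0, -2, -2, 0, 0, 0, 2, 0, 0, 0, 0, 0, 0, 0, 0, 0],
   [12, -2, -2, 0, 0, 0, -2, -2, -2, 0, -2, -2, 0, 0, 0, 2, 0, 0, 0, 0, 0, 0, 0, 0],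
   [10, -2, 0, 0, -2, 0, 0, 0, -2, -2, -2, -2, 0, 0, 0, 0, 2, 0, 0, 0, 0, 0, 0, 0],
   [10, 0, 0, -2, -2, -2, 0, -2, 0, -2, 0, -2, 0, 0, 0, 0, 0, 2, 0, 0, 0, 0, 0, 0],
   [10, 0, -2, -2, 0, -2, -2, -2, -2, 0, 0, 0, 0, 0, 0, 0, 0, 0, 2, 0, 0, 0, 0, 0],
   [12, -2, 0, -2, -2, 0, -2, -2, -2, -2, 0, 0, 0, 0, 0, 0, 0, 0, 0, 2, 0, 0, 0, 0],
   [12, 0, -2, 0, -2, -2, 0, -2, -2, -2, -2, 0, 0, 0, 0, 0, 0, 0, 0, 0, 2, 0, 0, 0],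
   [12, 0, 0, -2, 0, -2, -2, 0, -2, -2, -2, -2, 0, 0, 0, 0, 0, 0, 0, 0, 0, 2, 0, 0],
   [10, -2, -2, -2, 0, 0, -2, 0, 0, -2, 0, -2, 0, 0, 0, 0, 0, 0, 0, 0, 0, 0, 2, 0],
   [-59, 7, 5, 7, 5, 5, 5, 7, 7, 7, 5, 5, -1, -1, -1, -1, -1, -1, -1, -1, -1, -1, -1, 1]]

/-- a decidable membership criterion -/
def Chk (x : GolayPt → ℤ) : Prop :=
  ((∀ i, x i % 2 = 0) ∧ (∑ i, x i) % 8 = 0 ∧
    isCW (maskOf (Finset.univ.filter fun i => x i % 4 = 2)) = true) ∨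
  ((∀ i, x i % 2 = 1) ∧ (∑ i, x i) % 8 = 4 ∧
    isCW (maskOf (Finset.univ.filter fun i => x i % 4 = 3)) = true)

instance (x : GolayPt → ℤ) : Decidable (Chk x) := by
  unfold Chk
  infer_instance

lemma mem_of_chk (x : GolayPt → ℤ) (h : Chk x) : x ∈ leechLattice := by
  rw [mem_leechLattice_iff]
  rcases h with ⟨h2, h8, hc⟩ | ⟨h2, h8, hc⟩
  · exact mem_leechSet_of_even x h2 h8 ((mem_supports_iff_isCW _).mpr hc)
  · exact mem_leechSet_of_odd x h2 h8 ((mem_supports_iff_isCW _).mpr hc)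

lemma Bl_chk : ∀ j : GolayPt, Chk (rowL Bl j) := by decide +kernel

lemma Dl_chk : ∀ j : GolayPt, Chk (rowL Dl j) := by decide +kernel

lemma BD_id : ∀ i k : GolayPt, ∑ j, rowL Dl j i * rowL Bl j k = if i = k then 8 else 0 := by
  decide +kernel

/-- the basis vectors -/
def bvec (j : GolayPt) : GolayPt → ℤ := rowL Bl j

/-- the dual basis vectors -/
def dvec (j : GolayPt) : GolayPt → ℤ := rowL Dl j

lemma bvec_mem (j : GolayPt) : bvec j ∈ leechLattice := mem_of_chk _ (Bl_chk j)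

lemma dvec_mem (j : GolayPt) : dvec j ∈ leechLattice := mem_of_chk _ (Dl_chk j)

/-- coefficients with respect to the basis -/
def coef (x : GolayPt → ℤ) (j : GolayPt) : ℤ := dotInt x (dvec j) / 8

lemma coef_mul (x : GolayPt → ℤ) (hx : x ∈ leechLattice) (j : GolayPt) :
    8 * coef x j = dotInt x (dvec j) :=
  Int.mul_ediv_cancel' (eight_dvd_dot x _ hx (dvec_mem j))

lemma decomp (x : GolayPt → ℤ) (hx : x ∈ leechLattice) : x = ∑ j, coef x j • bvec j := by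
  funext k
  rw [Finset.sum_apply]
  simp only [Pi.smul_apply, smul_eq_mul]
  have h8 : (8 : ℤ) * ∑ j, coef x j * bvec j k = 8 * x k := by
    rw [Finset.mul_sum]
    have e : ∀ j, 8 * (coef x j * bvec j k) = ∑ i, x i * (dvec j i * bvec j k) := by
      intro j
      rw [← mul_assoc, coef_mul x hx j]
      unfold dotInt
      rw [Finset.sum_mul]
      apply Finset.sum_congr rfl
      intro i _
      ring
    rw [Finset.sum_congr rfl (fun j _ => e j), Finset.sum_comm]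
    have e2 : ∀ i, ∑ j, x i * (dvec j i * bvec j k) = x i * (if i = k then 8 else 0) := by
      intro i
      rw [← Finset.mul_sum]
      congr 1
      exact BD_id i k
    rw [Finset.sum_congr rfl (fun i _ => e2 i), Finset.sum_eq_single k]
    · rw [if_pos rfl]; ring
    · intro i _ hi
      rw [if_neg hi, mul_zero]
    · intro h
      exact absurd (Finset.mem_univ k) h
  omega

lemma sqNorm_eq_dot (x : GolayPt → ℤ) : sqNorm x = x ⬝ᵥ x := by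
  unfold sqNorm dotProduct
  apply Finset.sum_congr rfl
  intro i _
  ring

lemma sqNorm_mulVec (M : Matrix GolayPt GolayPt ℤ) (hM : M.transpose * M = (4 : ℤ) • 1)
    (x : GolayPt → ℤ) : sqNorm (M.mulVec x) = 4 * sqNorm x := by
  rw [sqNorm_eq_dot, sqNorm_eq_dot]
  have h1 : M.mulVec x ⬝ᵥ M.mulVec x = x ⬝ᵥ (M.transpose * M).mulVec x := by
    rw [← Matrix.mulVec_mulVec, Matrix.mulVec_transpose, Matrix.dotProduct_mulVec]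
    exact dotProduct_comm _ _
  rw [h1, hM, Matrix.smul_mulVec, Matrix.one_mulVec, dotProduct_smul, smul_eq_mul]

lemma sqNorm_two_zsmul (y : GolayPt → ℤ) : sqNorm ((2 : ℤ) • y) = 4 * sqNorm y := by
  unfold sqNorm
  rw [Finset.mul_sum]
  apply Finset.sum_congr rfl
  intro i _
  simp only [Pi.smul_apply, smul_eq_mul]
  ring

/-- the lattice is mapped into twice the lattice by an integer matrix as soon as the basis is -/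
lemma mulVec_mem_two (M : Matrix GolayPt GolayPt ℤ) (Y : GolayPt → GolayPt → ℤ)
    (hY : ∀ j, Y j ∈ leechLattice) (hMY : ∀ j, M.mulVec (bvec j) = (2 : ℤ) • Y j)
    (x : GolayPt → ℤ) (hx : x ∈ leechLattice) :
    ∃ y ∈ leechLattice, M.mulVec x = (2 : ℤ) • y := by
  refine ⟨∑ j, coef x j • Y j,
    leechLattice.sum_mem (fun j _ => leechLattice.zsmul_mem (hY j) _), ?_⟩
  conv_lhs => rw [decomp x hx]
  have h1 : M.mulVec (∑ j, coef x j • bvec j) = ∑ j, coef x j • M.mulVec (bvec j) := by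
    have := map_sum (Matrix.mulVecLin M) (fun j => coef x j • bvec j) Finset.univ
    simp only [Matrix.mulVecLin_apply, Matrix.mulVec_smul] at this
    exact this
  rw [h1, Finset.smul_sum]
  apply Finset.sum_congr rfl
  intro j _
  rw [hMY j, smul_comm]

/-- half of a vector -/
def halfV (x : GolayPt → ℤ) : GolayPt → ℤ := fun i => x i / 2

lemma halfV_two (y : GolayPt → ℤ) : halfV ((2 : ℤ) • y) = y := by
  funext i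
  simp [halfV]

/-- the half of the image under an integer matrix -/
def halfFun (M : Matrix GolayPt GolayPt ℤ) (x : GolayPt → ℤ) : GolayPt → ℤ := halfV (M.mulVec x)

lemma two_halfFun (M : Matrix GolayPt GolayPt ℤ)
    (hM : ∀ x ∈ leechLattice, ∃ y ∈ leechLattice, M.mulVec x = (2 : ℤ) • y)
    (x : GolayPt → ℤ) (hx : x ∈ leechLattice) : (2 : ℤ) • halfFun M x = M.mulVec x := by
  obtain ⟨y, -, hy⟩ := hM x hx
  unfold halfFun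
  rw [hy, halfV_two]

lemma halfFun_mem (M : Matrix GolayPt GolayPt ℤ)
    (hM : ∀ x ∈ leechLattice, ∃ y ∈ leechLattice, M.mulVec x = (2 : ℤ) • y)
    (x : GolayPt → ℤ) (hx : x ∈ leechLattice) : halfFun M x ∈ leechLattice := by
  obtain ⟨y, hyL, hy⟩ := hM x hx
  unfold halfFun
  rw [hy, halfV_two]
  exact hyL

lemma two_zsmul_inj (a b : GolayPt → ℤ) (h : (2 : ℤ) • a = (2 : ℤ) • b) : a = b := by
  funext i
  have := congrFun h i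
  simp only [Pi.smul_apply, smul_eq_mul] at this
  omega

/-- the automorphism `M / 2` for an integer matrix `M` with `Mᵀ M = 4` mapping the lattice into
twice the lattice, with inverse `N / 2` -/
def halfC (M N : Matrix GolayPt GolayPt ℤ) (mn : M * N = (4 : ℤ) • 1) (nm : N * M = (4 : ℤ) • 1)
    (tm : M.transpose * M = (4 : ℤ) • 1)
    (hM : ∀ x ∈ leechLattice, ∃ y ∈ leechLattice, M.mulVec x = (2 : ℤ) • y)
    (hN : ∀ x ∈ leechLattice, ∃ y ∈ leechLattice, N.mulVec x = (2 : ℤ) • y) : Co0 :=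
  mkCo0 (halfFun M) (halfFun N) (halfFun_mem M hM) (halfFun_mem N hN)
    (fun x hx => by
      apply two_zsmul_inj
      rw [two_halfFun N hN _ (halfFun_mem M hM x hx)]
      apply two_zsmul_inj
      rw [← Matrix.mulVec_smul, two_halfFun M hM x hx, Matrix.mulVec_mulVec, nm,
        Matrix.smul_mulVec, Matrix.one_mulVec, smul_smul]
      norm_num)
    (fun x hx => by
      apply two_zsmul_inj
      rw [two_halfFun M hM _ (halfFun_mem N hN x hx)]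
      apply two_zsmul_inj
      rw [← Matrix.mulVec_smul, two_halfFun N hN x hx, Matrix.mulVec_mulVec, mn,
        Matrix.smul_mulVec, Matrix.one_mulVec, smul_smul]
      norm_num)
    (fun x hx y hy => by
      apply two_zsmul_inj
      rw [smul_add, two_halfFun M hM x hx, two_halfFun M hM y hy,
        two_halfFun M hM _ (leechLattice.add_mem hx hy), Matrix.mulVec_add])
    (fun x hx => by
      have h1 := sqNorm_mulVec M tm x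
      rw [← two_halfFun M hM x hx, sqNorm_two_zsmul] at h1
      omega)

lemma halfC_apply (M N : Matrix GolayPt GolayPt ℤ) (mn : M * N = (4 : ℤ) • 1)
    (nm : N * M = (4 : ℤ) • 1) (tm : M.transpose * M = (4 : ℤ) • 1)
    (hM : ∀ x ∈ leechLattice, ∃ y ∈ leechLattice, M.mulVec x = (2 : ℤ) • y)
    (hN : ∀ x ∈ leechLattice, ∃ y ∈ leechLattice, N.mulVec x = (2 : ℤ) • y) (v : leechLattice) :
    (2 : ℤ) • ((halfC M N mn nm tm hM hN • v : leechLattice) : GolayPt → ℤ) = M.mulVec v.1 :=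
  two_halfFun M hM v.1 v.2

end Cfsg.Agent.Helper27
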