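import Cfsg.Agent.Helper27.Co0Mat

set_option autoImplicit false
open Cfsg

namespace Cfsg.Agent.Helper27

open Cfsg.Agent.Helper28.Golay (idx pt)

/-- the tetrad index of each point, for a fixed sextet -/
def tauL : List Nat := [0, 0, 0, 0, 1, 2, 3, 1, 4, 3, 1, 3, 1, 5, 2, 4, 4, 2, 5, 4, 5, 5, 3, 2]

/-- the tetrad index of a point -/
def tau (p : GolayPt) : Nat := tauL.getD (idx p) 0

/-- the sign attached to a point: minus on the first tetrad -/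
def sgnT (i : GolayPt) : ℤ := if tau i = 0 then -1 else 1

/-- twice the matrix of the sextet involution -/
def xiM : Matrix GolayPt GolayPt ℤ :=
  fun i l => sgnT i * ((if l = i then 2 else 0) - (if tau l = tau i then 1 else 0))

/-- the images of the basis vectors under the sextet involution -/
def Yl : List (List Int) :=
  [[1, 1, 1, 1, -1, -3, -1, -1, -1, -1, -1, -1, -1, -1, -3, -1, -1, -3, -1, -1, -1, -1, -1, 1],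
   [1, -1, 1, 1, -1, -1, -1, -1, -3, -1, -1, -1, 1, 1, 1, -1, -1, -1, -1, -1, -1, -1, 1, -1],
   [1, 1, -1, 1, -1, -1, -1, -1, -1, -1, -1, -1, 1, -1, -1, 1, -1, -1, -1, -1, -1, -3, 1, 1],
   [1, 1, 1, -1, -1, -1, -1, -1, -1, -1, -1, -1, 1, -1, -1, -1, -1, 1, -1, 1, -3, -1, 1, -1],
   [0, 0, 0, 0, 0, -2, 0, -2, -2, 0, -2, 0, 0, 0, -2, -2, 0, 0, -2, 0, 0, -2, 0, 0],
   [0, 0, 0, 0, 0, -2, 0, 0, 0, 0, 0, 0, 0, -2, -2, 0, 0, -2, -2, 0, -2, -2, 0, -2],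
   [0, 0, 0, 0, 0, -2, 0, 0, -2, -2, 0, -2, 0, -2, 0, 0, -2, -2, 0, 0, -2, 0, 0, 0],
   [0, 0, 0, 0, -2, -2, 0, 0, -2, 0, -2, 0, 0, -2, 0, 0, -2, 0, 0, 0, 0, -2, 0, -2],
   [0, 0, 0, 0, 0, 0, 0, 0, -2, 0, 0, 0, 0, -2, 0, -2, -2, 0, -2, -2, -2, -2, 0, 0],
   [0, 0, 0, 0, 0, -2, -2, 0, -2, 0, 0, -2, 0, -2, 0, -2, 0, 0, -2, 0, 0, 0, 0, -2],
   [0, 0, 0, 0, -2, -2, 0, -2, -2, 0, 0, 0, 0, -2, 0, 0, 0, -2, -2, -2, 0, 0, 0, 0],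
   [0, 0, 0, 0, 0, -2, -2, 0, -2, -2, 0, 0, 0, 0, -2, 0, 0, 0, -2, -2, -2, 0, 0, 0],
   [0, 0, 0, 0, -2, -2, 0, -2, 0, 0, -2, 0, 2, 0, -2, 0, 0, -2, 0, 0, 0, 0, 0, 2],
   [0, 0, 0, 0, 0, -2, 0, 0, 0, 0, 0, 0, 0, 2, -2, 0, 0, -2, -2, 0, -2, -2, 0, 2],
   [0, 0, 0, 0, 0, -4, 0, 0, 0, 0, 0, 0, 0, 0, 0, 0, 0, -4, 0, 0, 0, 0, 0, 0],
   [0, 0, 0, 0, 0, -2, 0, 0, -2, 0, 0, 0, 0, 0, -2, 2, -2, -2, 0, -2, 0, 0, 0, 2],
   [0, 0, 0, 0, 0, -2, 0, 0, -2, 0, 0, 0, 0, 0, -2, -2, 2, -2, 0, -2, 0, 0, 0, 2],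
   [0, 0, 0, 0, 0, -4, 0, 0, 0, 0, 0, 0, 0, 0, -4, 0, 0, 0, 0, 0, 0, 0, 0, 0],
   [0, 0, 0, 0, 0, -2, 0, 0, 0, 0, 0, 0, 0, -2, -2, 0, 0, -2, 2, 0, -2, -2, 0, 2],
   [0, 0, 0, 0, 0, -2, 0, 0, -2, 0, 0, 0, 0, 0, -2, -2, -2, -2, 0, 2, 0, 0, 0, 2],
   [0, 0, 0, 0, 0, -2, 0, 0, 0, 0, 0, 0, 0, -2, -2, 0, 0, -2, -2, 0, 2, -2, 0, 2],
   [0, 0, 0, 0, 0, -2, 0, 0, 0, 0, 0, 0, 0, -2, -2, 0, 0, -2, -2, 0, -2, 2, 0, 2],
   [0, 0, 0, 0, 0, -2, -2, 0, 0, -2, 0, -2, 0, 0, -2, 0, 0, -2, 0, 0, 0, 0, 2, 2],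
   [0, 0, 0, 0, 0, -4, 0, 0, 0, 0, 0, 0, 0, 0, -4, 0, 0, -4, 0, 0, 0, 0, 0, 4]]

lemma xiM_sq : xiM * xiM = (4 : ℤ) • (1 : Matrix GolayPt GolayPt ℤ) := by
  ext i k
  revert i k
  decide +kernel

lemma xiM_tr : xiM.transpose * xiM = (4 : ℤ) • (1 : Matrix GolayPt GolayPt ℤ) := by
  ext i k
  revert i k
  decide +kernel

lemma Yl_chk : ∀ j : GolayPt, Chk (rowL Yl j) := by decide +kernel

lemma xiM_B : ∀ j : GolayPt, xiM.mulVec (bvec j) = (2 : ℤ) • rowL Yl j := by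
  intro j
  funext i
  revert i j
  decide +kernel

lemma xiM_half : ∀ x ∈ leechLattice, ∃ y ∈ leechLattice, xiM.mulVec x = (2 : ℤ) • y :=
  mulVec_mem_two xiM (rowL Yl) (fun j => mem_of_chk _ (Yl_chk j)) xiM_B

/-- the sextet involution as an automorphism of the lattice -/
def xiC : Co0 := halfC xiM xiM xiM_sq xiM_sq xiM_tr xiM_half xiM_half

/-- the sum of the coordinates over the tetrad of a point -/
def tsum (x : GolayPt → ℤ) (i : GolayPt) : ℤ := ∑ l, if tau l = tau i then x l else 0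

lemma xiM_mulVec (x : GolayPt → ℤ) (i : GolayPt) :
    xiM.mulVec x i = sgnT i * (2 * x i - tsum x i) := by
  unfold Matrix.mulVec dotProduct xiM tsum
  have e : ∀ l, sgnT i * ((if l = i then 2 else 0) - (if tau l = tau i then 1 else 0)) * x l
      = sgnT i * ((if l = i then 2 * x l else 0) - (if tau l = tau i then x l else 0)) := by
    intro l
    split_ifs <;> ring
  rw [Finset.sum_congr rfl (fun l _ => e l), ← Finset.mul_sum, Finset.sum_sub_distrib,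
    Finset.sum_ite_eq' Finset.univ i]
  simp

lemma xiC_apply (v : leechLattice) (i : GolayPt) :
    2 * ((xiC • v : leechLattice) : GolayPt → ℤ) i = sgnT i * (2 * v.1 i - tsum v.1 i) := by
  have h := congrFun (halfC_apply xiM xiM xiM_sq xiM_sq xiM_tr xiM_half xiM_half v) i
  rw [xiM_mulVec] at h
  exact h

end Cfsg.Agent.Helper27
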