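import Cfsg.Agent.Helper27.Census3
import Cfsg.Agent.Helper27.Co2Neg
import Cfsg.Agent.S0400

set_option autoImplicit false
open Cfsg

/-! The 47104 minimal vectors having dot product `-8` with a given minimal vector. -/

namespace Cfsg.Agent.Helper27

/-- the minimal vectors with dot product `-8` with a given vector -/
def co2Set (v : leechLattice) : Set leechLattice :=
  {x : leechLattice | sqNorm x.1 = 32 ∧ dotInt v.1 x.1 = -8}

lemma co2Set_smul (g : Co0) (v x : leechLattice) :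
    x ∈ co2Set v ↔ g • x ∈ co2Set (g • v) := by
  show (sqNorm x.1 = 32 ∧ dotInt v.1 x.1 = -8) ↔
    (sqNorm (g • x : leechLattice).1 = 32 ∧
      dotInt (g • v : leechLattice).1 (g • x : leechLattice).1 = -8)
  rw [co0_norm, co0_dot]

/-- the census reference `(4, 4, 0, …, 0)` -/
def co2L : List (ℕ × ℕ) := [(4,0),(4,0),(0,0),(0,0),(0,0),(0,0),(0,0),(0,0),(0,0),(0,0),(0,0),(0,0),(0,0),(0,0),(0,0),(0,0),(0,0),(0,0),(0,0),(0,0),(0,0),(0,0),(0,0),(0,0)]

lemma co2L_len : co2L.length = 24 := rfl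

/-- the census reference vector -/
def co2A : leechLattice := ⟨vC Prod.fst co2L, mem_of_chk _ (by decide +kernel)⟩

lemma co2A_norm : sqNorm co2A.1 = 32 := by decide +kernel

lemma co2L_snd : ∀ p, vC Prod.snd co2L p = 0 := by decide +kernel

set_option maxRecDepth 100000 in
lemma co2_c1 : cnt1 co2L 0 8 0 0 = 0 := by decide +kernel

set_option maxRecDepth 100000 in
lemma co2_c2 : cnt2 co2L 0 8 0 0 = 22528 := by decide +kernel

set_option maxRecDepth 100000 in
lemma co2_c3 : cnt3 co2L 0 8 0 0 = 24576 := by decide +kernel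

theorem co2_count (v : leechLattice) (hv : sqNorm v.1 = 32) : (co2Set v).ncard = 47104 := by
  obtain ⟨g, hg⟩ := Cfsg.Agent.S0400.result v co2A hv co2A_norm
  have h := census_one co2L co2L_len co2L_snd 0 8
  rw [co2_c1, co2_c2, co2_c3] at h
  have h' : {w : leechLattice | sqNorm w.1 = 32 ∧
      dotInt (vC Prod.fst co2L) w.1 = ((0 : ℕ) : ℤ) - ((8 : ℕ) : ℤ)}.ncard = 47104 := h
  rw [← h']
  apply ncard_smul g
  intro x
  rw [co2Set_smul g v x, hg]
  show (sqNorm (g • x : leechLattice).1 = 32 ∧ dotInt co2A.1 (g • x : leechLattice).1 = -8) ↔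
    (sqNorm (g • x : leechLattice).1 = 32 ∧
      dotInt co2A.1 (g • x : leechLattice).1 = ((0 : ℕ) : ℤ) - ((8 : ℕ) : ℤ))
  have e : ((0 : ℕ) : ℤ) - ((8 : ℕ) : ℤ) = -8 := by norm_num
  rw [e]

theorem co2_trans (v : leechLattice) (hv : sqNorm v.1 = 32) :
    ∀ x ∈ co2Set v, ∀ x' ∈ co2Set v, ∃ g : Co0, g • v = v ∧ g • x = x' := by
  intro x hx x' hx'
  exact m2_trans_gen v x x' hv hx.1 hx'.1 hx.2 hx'.2

end Cfsg.Agent.Helper27
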