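import Mathlib
import Cfsg.Agent.Helper27.H1Core

set_option autoImplicit false

namespace Cfsg.Agent.Helper27.H1

/-- packed quadratic form, case 1 -/
def DA4q (c : ℕ) : Bool :=
  xor (c.testBit 0 && c.testBit 1) (xor (c.testBit 2) (xor (c.testBit 2 && c.testBit 3) (c.testBit 3)))

/-- certificate data, case 1 -/
def DA4 : Dat where
  n := 4
  m := 4
  qc := DA4q
  A := fun v => ([3, 5, 8, 4] : List ℕ).getD v.val 0
  par := fun v => ⟨(([0, 0, 1, 2] : List ℕ).getD v.val 0) % 4, Nat.mod_lt _ (by norm_num)⟩
  root := ⟨0, by norm_num⟩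
  rel := fun v => ((([[0], [], [1, 2, 1, 2], [2, 3, 2, 3]] : List (List ℕ)).getD v.val []).map (fun w => (⟨w % 4, Nat.mod_lt _ (by norm_num)⟩ : Fin 4)))
  fix := fun v => ([[0], [0, 1, 3, 2], [0, 4], [0, 11]] : List (List ℕ)).getD v.val []
  dep := fun c => (10404955358472043383913635244933120 >>> (8 * c)) % 256
  stp := fun c => ⟨((153970325561999360 >>> (4 * c)) % 16) % 4, Nat.mod_lt _ (by norm_num)⟩

theorem DA4_check : DA4.check := by
  unfold Dat.check
  refine ⟨?_, ?_, ?_, ?_, ?_, ?_, ?_, ?_, ?_⟩ <;> decide +kernel

/-- packed quadratic form, case 2 -/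
def DE6q (c : ℕ) : Bool :=
  xor (c.testBit 0 && c.testBit 2) (xor (c.testBit 1 && c.testBit 3) (xor (c.testBit 4) (xor (c.testBit 4 && c.testBit 5) (c.testBit 5))))

/-- certificate data, case 2 -/
def DE6 : Dat where
  n := 6
  m := 6
  qc := DE6q
  A := fun v => ([5, 11, 17, 38, 24, 13] : List ℕ).getD v.val 0
  par := fun v => ⟨(([0, 0, 0, 0, 1, 2] : List ℕ).getD v.val 0) % 6, Nat.mod_lt _ (by norm_num)⟩
  root := ⟨0, by norm_num⟩
  rel := fun v => ((([[0], [], [1, 1, 2, 1, 1, 2], [1, 1, 3, 1, 1, 3], [1, 4, 1, 4], [2, 5, 2, 5]] : List (List ℕ)).getD v.val []).map (fun w => (⟨w % 6, Nat.mod_lt _ (by norm_num)⟩ : Fin 6)))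
  fix := fun v => ([[0], [0, 38, 24, 62], [0, 13], [0, 16], [0, 45], [0, 55]] : List (List ℕ)).getD v.val []
  dep := fun c => (157122761666009574324713176860657178384950139794373665934120282605783165096753313500902059557118234154177318777254096842268697906488575839144371782942720 >>> (8 * c)) % 256
  stp := fun c => ⟨((36185029234660758078595466777899292248704677606584590528776663132788087586816 >>> (4 * c)) % 16) % 6, Nat.mod_lt _ (by norm_num)⟩

theorem DE6_check : DE6.check := by
  unfold Dat.check
  refine ⟨?_, ?_, ?_, ?_, ?_, ?_, ?_, ?_, ?_⟩ <;> decide +kernel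

/-- packed quadratic form, case 3 -/
def DE8q (c : ℕ) : Bool :=
  xor (c.testBit 0 && c.testBit 4) (xor (c.testBit 1 && c.testBit 5) (xor (c.testBit 2 && c.testBit 6) (c.testBit 3 && c.testBit 7)))

/-- certificate data, case 3 -/
def DE8 : Dat where
  n := 8
  m := 8
  qc := DE8q
  A := fun v => ([17, 35, 39, 43, 198, 68, 31, 42] : List ℕ).getD v.val 0
  par := fun v => ⟨(([0, 0, 0, 0, 1, 2, 5, 6] : List ℕ).getD v.val 0) % 8, Nat.mod_lt _ (by norm_num)⟩
  root := ⟨0, by norm_num⟩
  rel := fun v => ((([[0], [], [1, 1, 2, 1, 1, 2], [1, 1, 3, 1, 1, 3], [1, 4, 1, 4], [2, 5, 2, 5], [5, 6, 5, 6], [6, 7, 6, 7]] : List (List ℕ)).getD v.val []).map (fun w => (⟨w % 8, Nat.mod_lt _ (by norm_num)⟩ : Fin 8)))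
  fix := fun v => ([[0], [0, 43, 198, 237], [0, 110], [0, 185], [0, 8], [0, 12], [0, 42], [0, 19]] : List (List ℕ)).getD v.val []
  dep := fun c => (6930625008091980898989998155605642485338664087204844603931425891920484142250031145940990215393938147632979587859834369871565009414132569223037473333194797321155601101020234317651834879298834779135793453642391786354307124454219240447609631231215198405759785411180178370651641479530387177778487714728074808287227692780655884431453675261514023147809982245417208519604244530111253776854175758011353719497056994900265899332796754756510231768167089039208040091331965155913652841210186507479188205633949742929838790859851072274706893307839811464159934143676315628379120630610414284487913323954497915651252812854948003840 >>> (8 * c)) % 256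
  stp := fun c => ⟨((264534230679848309276373703057883092731630106522212328715252886821119828952252893410394104789713878642738046084094736761853737849452530838730191939251528412347890955150767335867961243192209262646465369267084822179109845305944561057128951510467363016517641222022393168902733276146624474236273318248551809024 >>> (4 * c)) % 16) % 8, Nat.mod_lt _ (by norm_num)⟩

theorem DE8_check : DE8.check := by
  unfold Dat.check
  refine ⟨?_, ?_, ?_, ?_, ?_, ?_, ?_, ?_, ?_⟩ <;> decide +kernel

end Cfsg.Agent.Helper27.H1
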