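import Cfsg.Agent.Helper27.OrbitCert
import Cfsg.Agent.Helper27.Census3

set_option autoImplicit false
open Cfsg

namespace Cfsg.Agent.Helper27

open Cfsg.Agent.Helper28.Golay (tf inM24 isCW)

def hs_r0 : List ℤ := [2, -2, 2, 2, 0, 2, 0, -2, 0, -2, 0, -2, 2, -2, -2, 0, 0, 0, 2, 0, 0, 0, 0, 0]

def hs_r1 : List ℤ := [-1, 1, -1, -3, -1, -3, 1, 1, -1, 1, 1, 1, -1, -1, 3, 1, -1, 1, -1, 1, -1, -1, 1, -1]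

def hs_gens : List (List ℕ × List ℕ × ℕ) :=
  [([17, 15, 19, 16, 20, 4, 5, 10, 6, 8, 11, 14, 1, 3, 22, 12, 21, 18, 9, 0, 13, 7, 23, 2], [19, 12, 23, 13, 5, 6, 8, 21, 9, 18, 7, 10, 15, 20, 11, 1, 3, 0, 17, 2, 4, 16, 14, 22], 10155046),
   ([1, 2, 9, 18, 21, 6, 5, 17, 3, 4, 22, 19, 23, 16, 7, 8, 14, 20, 13, 10, 15, 11, 0, 12], [22, 0, 1, 8, 9, 6, 5, 14, 15, 2, 19, 21, 23, 18, 16, 20, 13, 7, 3, 11, 17, 4, 10, 12], 15130653),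
   ([20, 6, 4, 17, 1, 14, 12, 21, 3, 2, 19, 10, 18, 11, 13, 23, 5, 7, 0, 8, 22, 16, 15, 9], [18, 4, 9, 8, 2, 16, 1, 17, 19, 23, 11, 13, 6, 14, 5, 22, 21, 3, 12, 10, 0, 7, 20, 15], 12382234)]

def hs_Y : List (List ℤ) :=
  [[1, -1, 1, 1, 1, 1, -1, -3, -1, 1, -1, -1, 1, -1, -1, -1, 1, -1, 1, -1, 1, 1, -1, -1],
   [0, 0, 0, 0, 0, 2, 0, -2, 0, -2, 0, -2, 2, 0, -2, 0, 0, 0, 0, 0, 2, 2, 0, 0],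
   [0, -2, 0, 2, 0, 2, 0, 0, 0, 0, -2, 0, 2, -2, -2, 0, 0, 0, 0, 0, 0, 2, 0, 0],
   [1, -1, 1, 1, 1, 1, -1, -1, -1, -1, 1, -1, 1, -1, -3, -1, 1, -1, -1, -1, -1, 1, 1, 1],
   [1, 1, 1, 1, 1, 1, -1, -1, 1, -1, -1, -1, 1, -1, -3, 1, -1, -1, 1, -1, -1, 1, -1, -1],
   [0, -2, 2, 2, 0, 2, 0, -2, 0, -2, 0, 0, 0, 0, 0, -2, 0, 0, 0, 0, 0, 2, 0, 0],
   [0, 0, 0, 2, 0, 2, 0, 0, -2, 0, 0, -2, 2, 0, -2, 0, 0, -2, 2, 0, 0, 0, 0, 0],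
   [1, 1, 1, 1, 1, 3, -1, -1, -1, -1, -1, -1, 1, -1, -1, -1, 1, 1, 1, 1, -1, 1, -1, 1],
   [2, 0, 2, 2, 0, 0, 0, -2, 0, -2, 0, 0, 0, 0, -2, 0, 0, 0, 0, -2, 2, 0, 0, 0],
   [-1, -1, 1, 3, 1, 1, -1, -1, 1, -1, 1, -1, 1, -1, -1, 1, 1, -1, 1, -1, 1, 1, 1, -1],
   [1, -1, 1, 1, 1, 1, 1, -1, 1, -1, 1, -1, 1, 1, -1, -1, -1, -1, 3, -1, 1, 1, -1, -1],
   [1, -1, 1, 1, -1, 1, 1, -1, -1, -1, -1, -1, 1, 1, -3, -1, 1, 1, 1, -1, -1, 1, -1, -1],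
   [1, -1, 1, 1, 1, 3, -1, -1, -1, -1, 1, -1, 1, 1, -1, -1, 1, 1, 1, -1, 1, -1, 1, -1],
   [2, -2, 0, 0, 2, 2, 0, 0, 0, 0, 0, -2, 2, 0, -2, 0, 0, 0, 0, 0, 0, 0, -2, 0],
   [1, -1, 1, 1, -1, 3, 1, -1, -1, -1, -1, -1, 1, -1, -1, -1, 1, -1, -1, -1, 1, -1, -1, 1],
   [1, -1, 1, 3, 1, 1, -1, -1, -1, -1, -1, 1, 1, -1, -1, -1, 1, -1, 1, 1, 1, -1, 1, 1],
   [0, -2, 0, 2, -2, 2, 0, -2, 0, 0, 0, 0, 0, 0, -2, 0, 0, 0, 2, 0, 2, 0, 0, 0],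
   [0, -2, 2, 2, 0, 2, 0, 0, 0, 0, 0, 0, 2, 0, 0, 0, 2, 0, 2, 0, 0, 0, -2, 0],
   [2, -2, 0, 2, 0, 0, -2, 0, 0, 0, 0, 0, 2, 0, -2, 0, 0, 0, 2, -2, 0, 0, 0, 0],
   [2, -2, 2, 2, 0, 2, 0, 0, 0, 0, 0, 0, 0, 0, -2, 0, 0, -2, 0, 0, 0, 0, 0, -2],
   [3, -1, 1, 1, -1, 1, -1, -1, -1, -1, 1, -1, 1, 1, -1, -1, 1, -1, 1, 1, 1, 1, -1, 1],
   [1, -1, -1, 1, 1, 1, 1, -1, 1, -1, -1, -1, 1, -1, -3, -1, 1, -1, 1, -1, 1, -1, 1, -1],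
   [2, 0, 0, 0, 0, 2, 0, -2, 0, 0, 0, -2, 0, 0, -2, 0, 0, 0, 2, -2, 0, 0, 0, 2],
   [1, -1, 1, 1, 1, 1, -1, -1, 1, -1, 1, -1, 1, 1, -3, 1, -1, -1, 1, 1, 1, -1, 1, 1],
   [-1, -1, 1, 1, 1, 3, -1, -1, 1, -1, -1, -1, 1, -1, -1, -1, -1, -1, 1, 1, 1, -1, -1, -1],
   [0, -2, 0, 2, 2, 2, 0, -2, 0, 0, 0, 0, 0, 0, -2, 0, 0, 0, 2, 0, -2, 0, 0, 0],
   [1, -1, 1, 1, 1, 1, -1, -1, 1, -3, 1, -1, 1, 1, -1, 1, 1, 1, 1, -1, -1, 1, -1, 1],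
   [0, 0, 2, 2, -2, 2, -2, 0, 0, -2, 0, 0, 2, 0, -2, 0, 0, 0, 0, 0, 0, 0, 0, 0],
   [2, 0, 0, 2, 0, 2, 0, 0, 0, -2, 0, 0, 0, 0, -2, 0, 0, 0, 2, 0, 0, 2, 2, 0],
   [1, -1, 1, 3, 1, 1, -1, -1, -1, -1, -1, -1, 1, 1, -1, 1, -1, 1, 1, 1, 1, 1, -1, -1],
   [0, 0, 2, 2, 0, 2, 0, -2, 0, 0, -2, -2, 0, 0, -2, 0, 0, 0, 0, 0, 0, 0, 2, 0],
   [0, 0, 0, 2, 0, 0, -2, -2, 0, -2, 0, -2, 0, 0, -2, -2, 0, 0, 2, 0, 0, 0, 0, 0],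
   [1, -1, 1, 1, -1, 1, -1, -1, 1, 1, -1, -1, 1, -1, -3, -1, 1, -1, 1, 1, -1, -1, -1, 1],
   [2, -2, 2, 2, 0, 2, 0, 0, 0, 0, 0, 0, 0, 0, -2, 0, 0, 2, 0, 0, 0, 0, 0, 2],
   [1, -1, 1, 1, 1, 3, 1, -1, 1, -1, -1, -1, -1, -1, -1, 1, 1, 1, 1, -1, 1, 1, -1, -1],
   [1, -1, 1, 1, 3, 1, -1, -1, 1, -1, -1, -1, 1, -1, -1, -1, -1, 1, 1, -1, 1, 1, 1, 1],
   [0, 0, 2, 2, 0, 2, 0, -2, 0, 0, 2, -2, 0, 0, -2, 0, 0, 0, 0, 0, 0, 0, -2, 0],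
   [0, 0, 2, 2, 2, 2, 2, 0, 0, -2, 0, 0, 2, 0, -2, 0, 0, 0, 0, 0, 0, 0, 0, 0],
   [1, -1, 1, 3, 1, 1, -1, 1, 1, -1, 1, -1, 1, -1, -1, -1, -1, -1, 1, 1, -1, 1, -1, 1],
   [1, -1, 1, 1, -1, 1, 1, 1, 1, -1, 1, -1, 1, -1, -3, 1, 1, -1, 1, -1, 1, 1, -1, 1],
   [0, -2, 0, 2, 0, 2, 0, 0, 0, -2, 0, -2, 0, 0, -2, 0, -2, 0, 0, -2, 0, 0, 0, 0],
   [1, -1, 1, 1, 1, 1, -1, -1, 1, -1, 1, 1, 1, -1, -3, -1, 1, 1, 1, 1, 1, 1, -1, -1],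
   [1, -1, 1, 3, -1, 1, -1, -1, -1, -1, -1, -1, -1, -1, -1, 1, 1, -1, 1, -1, -1, 1, -1, 1],
   [0, -2, 2, 2, 0, 0, 0, 0, 0, 0, 0, -2, 2, 0, -2, -2, 0, 0, 0, 0, 2, 0, 0, 0],
   [2, 0, 0, 2, 0, 0, 0, 0, 0, -2, -2, -2, 2, 0, -2, 0, 0, 0, 0, 0, 0, 0, 0, 2],
   [1, -1, 1, 1, 1, 1, 1, -3, 1, -1, -1, -1, 1, 1, -1, -1, 1, 1, 1, 1, 1, -1, -1, 1],
   [2, 0, 0, 2, 0, 2, 0, 0, 0, -2, 0, 0, 0, 0, -2, 0, 0, 0, 2, 0, 0, -2, -2, 0],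
   [1, -1, 1, 1, -1, 3, 1, -1, 1, -1, -1, -1, 1, 1, -1, 1, -1, -1, 1, 1, -1, 1, -1, 1],
   [1, -1, 3, 1, 1, 1, -1, -1, 1, -1, -1, -1, 1, -1, -1, 1, 1, -1, -1, 1, 1, 1, -1, 1],
   [1, -1, 1, 1, -1, 1, -1, -1, 1, -1, -1, -1, 1, -1, -1, -1, -1, -3, 1, -1, 1, 1, 1, 1],
   [1, -1, -1, 3, 1, 1, 1, -1, -1, -1, 1, -1, 1, -1, -1, -1, 1, 1, 1, -1, 1, 1, -1, 1],
   [2, 0, 0, 2, 0, 2, 0, -2, 0, 0, 0, 0, 2, 0, -2, 2, 2, 0, 0, 0, 0, 0, 0, 0],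
   [2, -2, 0, 2, 0, 2, 0, 0, 2, -2, 0, 0, 2, 0, 0, 0, 0, 0, 0, 0, 2, 0, 0, 0],
   [0, -2, 0, 0, 0, 2, 0, 0, 0, -2, 0, 0, 2, 0, -2, -2, 0, 0, 2, 0, 0, 0, 0, 2],
   [0, -2, 0, 2, 0, 2, 0, 0, 0, -2, 0, -2, 0, 0, -2, 0, 2, 0, 0, 2, 0, 0, 0, 0],
   [0, 0, 2, 2, 0, 2, 0, 0, 0, 0, 0, 0, 0, -2, -2, -2, 0, 0, 2, -2, 0, 0, 0, 0],
   [1, -1, 1, 1, 1, 3, -1, -1, -1, -1, 1, 1, 1, -1, -1, 1, -1, -1, 1, -1, 1, 1, -1, 1],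
   [0, -2, 0, 2, 0, 0, 0, -2, 0, -2, 0, 0, 2, 0, -2, 0, 0, -2, 0, 0, 0, 0, -2, 0],
   [1, -3, 1, 1, 1, 1, 1, -1, -1, -1, -1, -1, 1, 1, -1, 1, 1, -1, 1, -1, 1, 1, 1, 1],
   [1, -1, 1, 1, 1, 1, -1, -1, 1, -1, -1, -1, 3, 1, -1, -1, 1, -1, 1, 1, -1, 1, 1, -1],
   [2, 0, 2, 0, 0, 2, 0, 0, 2, -2, 0, -2, 0, 0, -2, -2, 0, 0, 0, 0, 0, 0, 0, 0],
   [1, -1, 1, 3, 1, 1, 1, -1, 1, 1, -1, -1, 1, -1, -1, 1, -1, -1, 1, -1, 1, -1, -1, 1],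
   [0, 0, 0, 2, 0, 2, 0, 0, 2, 0, 0, -2, 2, 0, -2, 0, 0, 2, 2, 0, 0, 0, 0, 0],
   [3, -1, 1, 1, 1, 1, 1, -1, 1, -1, -1, 1, 1, -1, -1, -1, 1, -1, 1, -1, -1, 1, -1, 1],
   [1, -1, -1, 1, 1, 1, -1, -1, 1, -1, -1, -1, 1, -1, -1, 1, 1, -1, 3, 1, 1, 1, -1, 1],
   [1, -1, 1, 1, -1, 1, -1, -1, 1, -1, -1, -1, 1, -1, -1, -1, 3, 1, 1, -1, 1, 1, 1, 1],
   [1, -1, -1, 1, -1, 3, -1, -1, 1, -1, 1, -1, 1, -1, -1, -1, 1, -1, 1, -1, -1, 1, -1, -1],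
   [2, 0, 0, 2, 0, 2, 0, -2, 0, 0, 0, 0, 2, 0, -2, -2, -2, 0, 0, 0, 0, 0, 0, 0],
   [2, 0, 2, 2, 0, 2, -2, -2, 2, 0, 0, 0, 0, 0, 0, 0, 0, 0, 2, 0, 0, 0, 0, 0],
   [1, -1, 3, 1, 1, 1, -1, -1, -1, -1, -1, -1, 1, 1, -1, -1, -1, -1, 1, -1, -1, -1, -1, 1],
   [2, 0, 2, 2, 2, 0, 0, 0, 0, 0, 0, -2, 0, 0, -2, 0, 2, 0, 2, 0, 0, 0, 0, 0],
   [0, 0, 2, 0, 0, 2, 0, -2, 0, -2, 0, 0, 0, 0, -2, 0, 2, -2, 2, 0, 0, 0, 0, 0],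
   [0, 0, 0, 2, 0, 2, 0, -2, 0, -2, -2, 0, 2, 0, 0, 0, 0, 0, 2, -2, 0, 0, 0, 0],
   [0, 0, 2, 2, 0, 0, 0, -2, 0, 0, 0, 0, 2, 0, -2, 0, 0, 0, 2, 0, 0, 2, 0, 2],
   [0, -2, 2, 0, 0, 2, -2, 0, 0, 0, 0, -2, 0, 0, -2, 0, 0, 0, 2, 0, 0, 2, 0, 0],
   [2, 0, 2, 2, 0, 2, 0, 0, 0, 0, 0, -2, 2, 0, 0, 0, 0, 0, 0, -2, 0, 2, 0, 0],
   [1, -1, 1, 1, 1, 3, -1, 1, 1, -1, -1, -1, 1, -1, -1, 1, 1, -1, 1, -1, -1, -1, 1, 1],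
   [2, -2, 0, 2, 0, 2, 0, 0, 0, 0, -2, -2, 0, 0, 0, -2, 0, 0, 2, 0, 0, 0, 0, 0],
   [0, 0, 0, 2, 0, 2, 0, -2, 2, -2, 0, 0, 0, -2, -2, 0, 0, 0, 0, 0, 0, 0, 0, 2],
   [1, -1, 1, 3, 1, 1, -1, -1, 1, -1, -1, -1, 1, -1, -1, -1, 1, 1, -1, -1, -1, -1, -1, -1],
   [1, -1, 1, 3, -1, 1, 1, -1, 1, -1, 1, -1, 1, 1, -1, -1, 1, -1, 1, -1, -1, -1, 1, 1],
   [1, 1, 1, 1, 1, 1, -1, -1, 1, -1, 1, -1, 3, -1, -1, -1, 1, -1, 1, -1, 1, -1, -1, 1],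
   [1, -1, 1, 1, -1, 1, -1, -1, 1, -1, -1, -1, 1, -1, -1, -1, -1, 1, 1, -1, 1, 1, -3, 1],
   [1, -3, 1, 1, 1, 1, -1, -1, 1, -1, 1, -1, -1, -1, -1, -1, 1, -1, 1, -1, 1, -1, -1, 1],
   [1, -1, 1, 1, -1, 1, -1, -1, 1, -1, -1, -3, 1, 1, -1, 1, 1, -1, 1, -1, 1, -1, -1, -1],
   [-1, -1, 1, 1, 1, 1, 1, -1, 1, -1, -1, -3, 1, -1, -1, -1, 1, -1, 1, -1, -1, 1, -1, 1],
   [2, 0, 2, 0, 0, 2, 0, 0, 0, 0, -2, 0, 2, 0, -2, 0, 0, 0, 2, 0, 2, 0, 0, 0],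
   [-1, -1, 1, 1, 1, 1, -1, -1, -1, -1, -1, -1, 1, -1, -3, 1, 1, 1, 1, -1, 1, -1, -1, 1],
   [1, 1, 1, 3, -1, 1, 1, -1, 1, -1, -1, -1, 1, -1, -1, -1, 1, -1, 1, 1, 1, 1, -1, -1],
   [0, -2, 2, 0, 0, 2, 0, -2, 2, 0, 0, 0, 2, 0, -2, 0, 0, 0, 0, -2, 0, 0, 0, 0],
   [1, -1, 1, 1, 1, 1, -1, 1, -1, -3, -1, -1, 1, -1, -1, -1, 1, -1, 1, -1, 1, 1, -1, -1],
   [0, 0, 2, 2, 0, 2, 0, 0, 0, -2, 0, -2, 0, 0, 0, 0, 0, 0, 2, 0, 2, 0, 0, 2],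
   [2, 0, 0, 2, 2, 2, 0, -2, 0, -2, 0, -2, 0, 0, 0, 0, 0, -2, 0, 0, 0, 0, 0, 0],
   [0, -2, 0, 2, 0, 2, -2, -2, 0, 0, 0, -2, 2, 0, 0, 0, 0, 0, 0, 0, 0, 0, 0, 2],
   [2, -2, 0, 0, 0, 2, -2, -2, 0, -2, -2, 0, 0, 0, -2, 0, 0, 0, 0, 0, 0, 0, 0, 0],
   [1, -1, 1, 1, 1, 1, 1, -1, -1, -1, -1, -1, -1, -1, -3, -1, -1, -1, 1, 1, 1, 1, -1, 1],
   [2, -2, 0, 2, 0, 0, 0, -2, 2, 0, 0, -2, 0, 0, -2, 0, 0, 0, 0, 0, 0, 2, 0, 0],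
   [1, -1, 1, 1, 1, 3, 1, -1, 1, 1, 1, -1, 1, -1, -1, -1, 1, -1, 1, 1, 1, 1, 1, 1],
   [0, -2, 2, 2, 0, 0, 0, 0, 2, -2, -2, 0, 0, 0, -2, 0, 0, 0, 2, 0, 0, 0, 0, 0],
   [2, 0, 0, 2, 0, 2, -2, 0, 0, 0, 0, -2, 0, -2, -2, 0, 0, 0, 0, 0, 2, 0, 0, 0]]

def hs_par : List ℕ := [0, 0, 1, 1, 2, 2, 3, 4, 4, 5, 5, 6, 6, 7, 7, 8, 8, 10, 10, 12, 13, 14, 14, 15, 15, 16, 17, 18, 19, 19, 21, 21, 22, 23, 24, 24, 25, 25, 26, 26, 28, 29, 31, 31, 32, 32, 33, 33, 35, 35, 36, 36, 38, 39, 40, 40, 41, 41, 43, 43, 44, 45, 47, 47, 48, 49, 50, 51, 52, 53, 54, 55, 55, 57, 58, 59, 60, 60, 61, 62, 62, 63, 63, 64, 65, 65, 69, 71, 72, 72, 74, 76, 79, 81, 86, 87, 88, 89, 91, 92]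

def hs_gi : List ℕ := [0, 1, 0, 2, 1, 2, 1, 0, 2, 0, 1, 0, 2, 1, 2, 0, 1, 0, 2, 0, 2, 0, 1, 1, 2, 2, 1, 1, 1, 2, 1, 2, 0, 0, 0, 1, 0, 1, 0, 2, 2, 1, 0, 1, 1, 2, 1, 2, 0, 2, 1, 2, 2, 0, 0, 1, 0, 2, 0, 2, 2, 0, 0, 1, 1, 0, 2, 0, 1, 1, 1, 0, 2, 1, 2, 0, 0, 1, 1, 1, 2, 0, 2, 2, 1, 2, 2, 2, 0, 1, 1, 2, 0, 1, 1, 0, 1, 0, 0, 2]

/-- coefficients of the two reference vectors `(5, 1, 1, ...)` and `(1, 5, 1, ...)` -/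
def hsL : List (ℕ × ℕ) := [(5,1),(1,5),(1,1),(1,1),(1,1),(1,1),(1,1),(1,1),(1,1),(1,1),(1,1),(1,1),(1,1),(1,1),(1,1),(1,1),(1,1),(1,1),(1,1),(1,1),(1,1),(1,1),(1,1),(1,1)]

lemma hsL_len : hsL.length = 24 := rfl

/-- first reference vector of the census model -/
def hsA1 : leechLattice := ⟨vC Prod.fst hsL, mem_of_chk _ (by decide +kernel)⟩

/-- second reference vector of the census model -/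
def hsA2 : leechLattice := ⟨vC Prod.snd hsL, mem_of_chk _ (by decide +kernel)⟩

lemma hsA1_norm : sqNorm hsA1.1 = 48 := by decide +kernel

lemma hsA2_norm : sqNorm hsA2.1 = 48 := by decide +kernel

lemma hsA_dot : dotInt hsA1.1 hsA2.1 = 32 := by decide +kernel

/-- first reference vector of the orbit model -/
def hsB1 : leechLattice := ⟨vecL hs_r0, mem_of_chk _ (by decide +kernel)⟩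

/-- second reference vector of the orbit model -/
def hsB2 : leechLattice := ⟨vecL hs_r1, mem_of_chk _ (by decide +kernel)⟩

lemma hsB1_norm : sqNorm hsB1.1 = 48 := by decide +kernel

lemma hsB2_norm : sqNorm hsB2.1 = 48 := by decide +kernel

lemma hsB_dot : dotInt hsB1.1 hsB2.1 = -32 := by decide +kernel

lemma hs_val : ∀ d ∈ hs_gens, gdValid d = true := by decide +kernel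

set_option maxRecDepth 100000 in
lemma hs_fix : ∀ d ∈ hs_gens, ∀ r ∈ [hsB1, hsB2], gdFun d r.1 = r.1 := by decide +kernel

set_option maxRecDepth 100000 in
lemma hs_cert : ∀ k < hs_Y.length, 0 < k → hs_par.getD k 0 < k ∧ hs_gi.getD k 0 < hs_gens.length ∧
    gdFun (hs_gens.getD (hs_gi.getD k 0) ([], [], 0)) (vecL (hs_Y.getD (hs_par.getD k 0) []))
      = vecL (hs_Y.getD k []) := by decide +kernel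

set_option maxRecDepth 100000 in
lemma hs_mem : ∀ k < hs_Y.length, Chk (vecL (hs_Y.getD k [])) ∧
    sqNorm (vecL (hs_Y.getD k [])) = 32 ∧ dotInt hsB1.1 (vecL (hs_Y.getD k [])) = 24 ∧
    dotInt hsB2.1 (vecL (hs_Y.getD k [])) = -24 := by decide +kernel

set_option maxRecDepth 100000 in
lemma hs_inj : ∀ k < hs_Y.length, ∀ k' < k,
    vecL (hs_Y.getD k []) ≠ vecL (hs_Y.getD k' []) := by decide +kernel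

set_option maxRecDepth 100000 in
lemma hs_c1 : cnt1 hsL 24 0 24 0 = 1 := by decide +kernel

set_option maxRecDepth 100000 in
lemma hs_c2 : cnt2 hsL 24 0 24 0 = 77 := by decide +kernel

set_option maxRecDepth 100000 in
lemma hs_c3 : cnt3 hsL 24 0 24 0 = 22 := by decide +kernel

end Cfsg.Agent.Helper27
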