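import Cfsg.Agent.Helper27.PermChain2
import Cfsg.Agent.Helper27.J2Data

namespace Cfsg.Agent.Helper27.J2

open Cfsg.Agent.Helper27.PC

set_option maxRecDepth 1000000

def g4 : List Tb := [s4]
def g3 : List Tb := s3 :: g4
def g2 : List Tb := s2 :: g3
def g1 : List Tb := s1 :: g2

lemma ok1 : okPair 100 s1 s1i = true := by decide +kernel
lemma ok2 : okPair 100 s2 s2i = true := by decide +kernel
lemma ok3 : okPair 100 s3 s3i = true := by decide +kernel
lemma ok4 : okPair 100 s4 s4i = true := by decide +kernel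

lemma t4 : treeChk 100 g4 T4 T4s = true := by decide +kernel
lemma t3 : treeChk 100 g3 T3 T3s = true := by decide +kernel
lemma t2 : treeChk 100 g2 T2 T2s = true := by decide +kernel
lemma t1 : treeChk 100 g1 T1 T1s = true := by decide +kernel
lemma te2 : treeChk 100 g2 E2 E2s = true := by decide +kernel

lemma c4 : closeChk 100 T4 [] g4 C4 = true := by decide +kernel
lemma c3 : closeChk 100 T3 [T4] g3 C3 = true := by decide +kernel
lemma c2 : closeChk 100 T2 [T3, T4] g2 C2 = true := by decide +kernel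
lemma c1 : closeChk 100 T1 [T2, T3, T4] g1 C1 = true := by decide +kernel

lemma els3_eq : T3.flatMap (fun u => T4.map (comp 100 u)) = els3 := by decide +kernel

lemma nc3 : ncChk 100 els3 g3 els3 NC = true := by decide +kernel

lemma id1 : idT 100 ∈ T1 := by decide +kernel
lemma id2 : idT 100 ∈ T2 := by decide +kernel
lemma id3 : idT 100 ∈ T3 := by decide +kernel
lemma id4 : idT 100 ∈ T4 := by decide +kernel

lemma len1 : T1.length = 100 := by decide +kernel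
lemma len2 : T2.length = 36 := by decide +kernel
lemma len3 : T3.length = 42 := by decide +kernel
lemma len4 : T4.length = 4 := by decide +kernel

lemma fix2 : ∀ s ∈ g2, app s 0 = 0 := by decide +kernel
lemma fix3 : ∀ s ∈ g3, app s 1 = 1 := by decide +kernel
lemma fix4 : ∀ s ∈ g4, app s 42 = 42 := by decide +kernel

lemma nd1 : (T1.map (fun t => app t 0)).Nodup := by decide +kernel
lemma nd2 : (T2.map (fun t => app t 1)).Nodup := by decide +kernel
lemma nd3 : (T3.map (fun t => app t 42)).Nodup := by decide +kernel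
lemma nd4 : (T4.map (fun t => app t 9)).Nodup := by decide +kernel

lemma s3_ne : s3 ≠ idT 100 := by decide +kernel

/-- the 36-orbit is invariant under the point stabiliser -/
lemma inv2 : ∀ s ∈ g2, ∀ x ∈ L0, app s x ∈ L0 := by decide +kernel

lemma cov1 : ∀ y < 100, ∃ e ∈ T1, app e 0 = y := by decide +kernel
lemma cov2 : ∀ y ∈ L0, ∃ e ∈ T2, app e 1 = y := by decide +kernel
lemma covE2 : ∀ y ∈ L1, ∃ e ∈ E2, app e 37 = y := by decide +kernel
lemma covM1 : ∀ y ∈ M1, ∃ e ∈ els3, app e 2 = y := by decide +kernel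
lemma covM2 : ∀ y ∈ M2, ∃ e ∈ els3, app e 3 = y := by decide +kernel
lemma covM3 : ∀ y ∈ M3, ∃ e ∈ els3, app e 4 = y := by decide +kernel

/-- list facts about the suborbits -/
lemma L0_nd : L0.Nodup ∧ ∀ y ∈ L0, y < 100 := by decide +kernel
lemma L1_nd : L1.Nodup ∧ ∀ y ∈ L1, y < 100 := by decide +kernel
lemma M1_nd : M1.Nodup ∧ ∀ y ∈ M1, y < 100 := by decide +kernel
lemma M2_nd : M2.Nodup ∧ ∀ y ∈ M2, y < 100 := by decide +kernel
lemma M3_nd : M3.Nodup ∧ ∀ y ∈ M3, y < 100 := by decide +kernel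
lemma L_len : L0.length = 36 ∧ L1.length = 63 ∧ M1.length = 7 ∧ M2.length = 21 ∧ M3.length = 7 := by
  decide +kernel
lemma L_cover : ∀ y < 100, y ≠ 0 → y ∈ L0 ∨ y ∈ L1 := by decide +kernel
lemma L_disj : ∀ y ∈ L0, y ∉ L1 := by decide +kernel
lemma L_zero : 0 ∉ L0 ∧ 0 ∉ L1 := by decide +kernel
lemma M_cover : ∀ y ∈ L0, y ≠ 1 → y ∈ M1 ∨ y ∈ M2 ∨ y ∈ M3 := by decide +kernel
lemma M_sub : (∀ y ∈ M1, y ∈ L0) ∧ (∀ y ∈ M2, y ∈ L0) ∧ (∀ y ∈ M3, y ∈ L0) := by decide +kernel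
lemma M_disj : (∀ y ∈ M1, y ∉ M2) ∧ (∀ y ∈ M1, y ∉ M3) ∧ (∀ y ∈ M2, y ∉ M3) := by decide +kernel
lemma M_one : 1 ∉ M1 ∧ 1 ∉ M2 ∧ 1 ∉ M3 ∧ 1 ∈ L0 := by decide +kernel

lemma arithA1 : ∀ I : Finset (Fin 3), I ≠ ∅ → I ≠ Finset.univ →
    ¬ (1 + ∑ i ∈ I, (![7, 21, 7] : Fin 3 → ℕ) i) ∣ 36 := by
  decide +kernel

lemma arithA2 : ∀ I₁ I₂ : Finset (Fin 3), Disjoint I₁ I₂ →
    4 ∣ (1 + ∑ i ∈ I₁, (![7, 21, 7] : Fin 3 → ℕ) i) →
    9 ∣ (1 + ∑ i ∈ I₂, (![7, 21, 7] : Fin 3 → ℕ) i) → False := by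
  decide +kernel

lemma arithB1 : ∀ I : Finset (Fin 2), I ≠ ∅ → I ≠ Finset.univ →
    ¬ (1 + ∑ i ∈ I, (![36, 63] : Fin 2 → ℕ) i) ∣ 100 := by
  decide +kernel

lemma arithB2 : ∀ I₁ I₂ : Finset (Fin 2), Disjoint I₁ I₂ →
    4 ∣ (1 + ∑ i ∈ I₁, (![36, 63] : Fin 2 → ℕ) i) →
    25 ∣ (1 + ∑ i ∈ I₂, (![36, 63] : Fin 2 → ℕ) i) → False := by
  decide +kernel

end Cfsg.Agent.Helper27.J2
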