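import Cfsg.Agent.Helper27.LeechClasses
import Cfsg.Agent.Helper27.Co0Order
import Cfsg.Agent.S0400
import Cfsg.Agent.S0401
import Cfsg.Agent.S0392

set_option autoImplicit false
open Cfsg

namespace Cfsg.Agent.Helper27

/-- the minimal vectors `(1, ..., 1) - 4 e_k` -/
def Uk (k : GolayPt) : leechLattice :=
  ⟨uvec ∅ k, (mem_leechLattice_iff _).mpr (uvec_mem ∅ k Spor.empty_mem_supports_golayCode)⟩

lemma Uk_apply (k j : GolayPt) : (Uk k).1 j = 1 + (if j = k then -4 else 0) := by
  show uvec ∅ k j = _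
  unfold uvec
  simp

lemma Uk_norm : ∀ k, sqNorm (Uk k).1 = 32 := by decide +kernel

lemma Uk_sum : ∀ k, ∑ j, (Uk k).1 j = 20 := by decide +kernel

lemma dot_Uk (y : GolayPt → ℤ) (k : GolayPt) : dotInt y (Uk k).1 = (∑ j, y j) - 4 * y k := by
  unfold dotInt
  have h : ∀ j, y j * (Uk k).1 j = y j + (if j = k then -4 * y k else 0) := by
    intro j
    rw [Uk_apply]
    by_cases hj : j = k
    · subst hj
      rw [if_pos rfl, if_pos rfl]
      ring
    · rw [if_neg hj, if_neg hj]
      ring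
  rw [Finset.sum_congr rfl (fun j _ => h j), Finset.sum_add_distrib, Finset.sum_ite_eq']
  rw [if_pos (Finset.mem_univ k)]
  ring

lemma Uk_dot (k l : GolayPt) (h : k ≠ l) : dotInt (Uk k).1 (Uk l).1 = 16 := by
  rw [dot_Uk, Uk_sum, Uk_apply, if_neg (Ne.symm h)]
  norm_num

lemma card_pts : Fintype.card GolayPt = 24 := by decide

/-- an automorphism fixing the vectors `Uk` is the identity -/
lemma eq_one_of_fix (g : Co0) (h : ∀ k, g • Uk k = Uk k) : g = 1 := by
  have hE : ∀ i j, ((g • leechE i : leechLattice) : GolayPt → ℤ) j = if j = i then 8 else 0 := by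
    intro i
    have hy : ∀ k, (∑ j, ((g • leechE i : leechLattice) : GolayPt → ℤ) j)
        - 4 * ((g • leechE i : leechLattice) : GolayPt → ℤ) k
        = 8 * (1 + (if i = k then -4 else 0)) := by
      intro k
      have hd := co0_dot g (leechE i) (Uk k)
      rw [h k, dot_Uk, leechE_eq, dot_single, Uk_apply] at hd
      exact hd
    generalize ((g • leechE i : leechLattice) : GolayPt → ℤ) = y at hy
    have hS : ∑ j, y j = 8 := by
      have e : ∑ k : GolayPt, ((∑ j, y j) - 4 * y k)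
          = ∑ k : GolayPt, (8 * (1 + (if i = k then (-4 : ℤ) else 0))) :=
        Finset.sum_congr rfl (fun k _ => hy k)
      rw [Finset.sum_sub_distrib, Finset.sum_const, ← Finset.mul_sum, ← Finset.mul_sum,
        Finset.sum_add_distrib, Finset.sum_const, Finset.sum_ite_eq, Finset.card_univ, card_pts,
        if_pos (Finset.mem_univ i)] at e
      simp only [nsmul_eq_mul, Nat.cast_ofNat, mul_one] at e
      linarith
    intro j
    have := hy j
    rw [hS] at this
    by_cases hj : j = i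
    · rw [if_pos hj]
      rw [if_pos hj.symm] at this
      omega
    · rw [if_neg hj]
      rw [if_neg (Ne.symm hj)] at this
      omega
  apply co0_ext
  intro v
  funext j
  have hk := cmat_key (fun v => g • v) (co0_add g) v j
  rw [Finset.sum_eq_single j] at hk
  · have e : cmat (fun v => g • v) j j = 8 := by
      show ((g • leechE j : leechLattice) : GolayPt → ℤ) j = 8
      rw [hE, if_pos rfl]
    rw [e] at hk
    rw [one_smul]
    omega
  · intro i _ hi
    show ((g • leechE i : leechLattice) : GolayPt → ℤ) j * v.1 i = 0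
    rw [hE, if_neg (Ne.symm hi), zero_mul]
  · intro h
    exact absurd (Finset.mem_univ j) h

/-- an automorphism acting trivially modulo twice the lattice is central -/
theorem mod2_center (g : Co0)
    (h : ∀ v : leechLattice, ∃ w : leechLattice,
      ((g • v : leechLattice) : GolayPt → ℤ) - (v : GolayPt → ℤ) = 2 • (w : GolayPt → ℤ)) :
    g ∈ Subgroup.center Co0 := by
  have hnegc : negC ∈ Subgroup.center Co0 := by
    rw [Subgroup.mem_center_iff]
    intro k
    exact negC_comm k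
  have hpm : ∀ k, g • Uk k = Uk k ∨ g • Uk k = -Uk k := by
    intro k
    obtain ⟨w, hw⟩ := h (Uk k)
    have hn : sqNorm (g • Uk k : leechLattice).1 = 32 := by rw [co0_norm, Uk_norm]
    have key := (Cfsg.Agent.S5551.result (g • Uk k : leechLattice).1 (Uk k).1 (g • Uk k).2 (Uk k).2
      (ne_zero_of_sqNorm (by norm_num) hn) (ne_zero_of_sqNorm (by norm_num) (Uk_norm k))
      (by rw [hn]; norm_num) (by rw [Uk_norm]; norm_num) ⟨w.1, w.2, hw⟩).2 (by rw [hn]; norm_num)
    rcases key with e | e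
    · left
      exact Subtype.ext e.symm
    · right
      apply Subtype.ext
      show (g • Uk k : leechLattice).1 = -(Uk k).1
      rw [e, neg_neg]
  have hcons : ∀ k l, g • Uk k = Uk k → g • Uk l = -Uk l → False := by
    intro k l hk hl
    by_cases hkl : k = l
    · subst hkl
      rw [hk] at hl
      have e := congrArg (fun u : leechLattice => (u : GolayPt → ℤ) k) hl
      have e' : (Uk k).1 k = -(Uk k).1 k := e
      rw [Uk_apply, if_pos rfl] at e'
      norm_num at e'
    · have hd := co0_dot g (Uk k) (Uk l)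
      rw [hk, hl] at hd
      have e : dotInt (Uk k).1 (-Uk l : leechLattice).1 = -dotInt (Uk k).1 (Uk l).1 :=
        dotInt_neg_right _ _
      rw [e, Uk_dot k l hkl] at hd
      norm_num at hd
  rcases hpm none with h0 | h0
  · have hall : ∀ k, g • Uk k = Uk k := by
      intro k
      rcases hpm k with e | e
      · exact e
      · exact (hcons none k h0 e).elim
    rw [eq_one_of_fix g hall]
    exact Subgroup.one_mem _
  · have hall : ∀ k, (negC * g) • Uk k = Uk k := by
      intro k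
      rcases hpm k with e | e
      · exact (hcons k none e h0).elim
      · rw [mul_smul, e]
        apply Subtype.ext
        rw [negC_apply]
        show -(-(Uk k).1) = (Uk k).1
        rw [neg_neg]
    have e1 := eq_one_of_fix (negC * g) hall
    have e2 : g = negC⁻¹ := eq_inv_of_mul_eq_one_right e1
    rw [e2]
    exact Subgroup.inv_mem _ hnegc

/-! ### explicit vectors -/

def mA : leechLattice := ⟨vecL [4, 0, 0, 0, 0, 0, 0, 0, 0, 0, 0, 0, 0, 0, 0, 0, 0, 0, 0, 0, 0, 0, 0, 4], mem_of_chk _ (by decide +kernel)⟩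
def mB : leechLattice := ⟨vecL [-4, 0, 0, 0, 0, 0, 0, 0, 0, 0, 0, 0, 0, 0, 0, 0, 0, 0, 0, 0, 0, 0, 0, 4], mem_of_chk _ (by decide +kernel)⟩
def mR : leechLattice := ⟨vecL [5, 1, 1, 1, 1, 1, 1, 1, 1, 1, 1, 1, 1, 1, 1, 1, 1, 1, 1, 1, 1, 1, 1, 1], mem_of_chk _ (by decide +kernel)⟩
def mAp : leechLattice := ⟨vecL [4, 4, 0, 0, 0, 0, 0, 0, 0, 0, 0, 0, 0, 0, 0, 0, 0, 0, 0, 0, 0, 0, 0, 0], mem_of_chk _ (by decide +kernel)⟩
def mBp : leechLattice := ⟨vecL [1, -3, 1, 1, 1, 1, 1, 1, 1, 1, 1, 1, 1, 1, 1, 1, 1, 1, 1, 1, 1, 1, 1, 1], mem_of_chk _ (by decide +kernel)⟩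
def mR2 : leechLattice := ⟨vecL [1, 5, 1, 1, 1, 1, 1, 1, 1, 1, 1, 1, 1, 1, 1, 1, 1, 1, 1, 1, 1, 1, 1, 1], mem_of_chk _ (by decide +kernel)⟩
def mF1 : leechLattice := ⟨vecL [4, 4, 4, 4, 0, 0, 0, 0, 0, 0, 0, 0, 0, 0, 0, 0, 0, 0, 0, 0, 0, 0, 0, 0], mem_of_chk _ (by decide +kernel)⟩
def mF2 : leechLattice := ⟨vecL [4, 4, 4, 0, 4, 0, 0, 0, 0, 0, 0, 0, 0, 0, 0, 0, 0, 0, 0, 0, 0, 0, 0, 0], mem_of_chk _ (by decide +kernel)⟩

lemma mA_norm : sqNorm mA.1 = 32 := by decide +kernel
lemma mB_norm : sqNorm mB.1 = 32 := by decide +kernel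
lemma mAB_sum : mA.1 + mB.1 = x0.1 := by decide +kernel
lemma mR_norm : sqNorm mR.1 = 48 := by decide +kernel
lemma mAp_norm : sqNorm mAp.1 = 32 := by decide +kernel
lemma mBp_norm : sqNorm mBp.1 = 32 := by decide +kernel
lemma mR_sum : mAp.1 + mBp.1 = mR.1 := by decide +kernel
lemma mR2_norm : sqNorm mR2.1 = 48 := by decide +kernel
lemma mRR_norm : sqNorm (mR.1 - mR2.1) = 32 := by decide +kernel
lemma mF1_norm : sqNorm mF1.1 = 64 := by decide +kernel
lemma mF2_norm : sqNorm mF2.1 = 64 := by decide +kernel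
lemma mFF_norm : sqNorm (mF1.1 - mF2.1) = 32 := by decide +kernel

lemma two_smul_eq (z : GolayPt → ℤ) : (2 : ℤ) • z = (2 : ℕ) • z := by
  rw [two_zsmul, two_nsmul]

/-- an invariant subgroup between twice the lattice and the lattice is one of the two -/
theorem mod2_irred (M : AddSubgroup (GolayPt → ℤ)) (h2 : ∀ v ∈ leechLattice, (2 : ℤ) • v ∈ M)
    (hML : M ≤ leechLattice)
    (hinv : ∀ g : Co0, ∀ v : leechLattice, (v : GolayPt → ℤ) ∈ M →
      ((g • v : leechLattice) : GolayPt → ℤ) ∈ M) :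
    (∀ x ∈ M, ∃ w ∈ leechLattice, x = (2 : ℤ) • w) ∨ M = leechLattice := by
  by_cases hall : ∀ x ∈ M, ∃ w ∈ leechLattice, x = (2 : ℤ) • w
  · exact Or.inl hall
  right
  push Not at hall
  obtain ⟨x, hxM, hx⟩ := hall
  obtain ⟨y, hy, hyn, z, hz, hxy⟩ := short_rep x (hML hxM)
  have hyM : y ∈ M := by
    have e : y = x - (2 : ℤ) • z := by
      rw [two_smul_eq, ← hxy]
      abel
    rw [e]
    exact M.sub_mem hxM (h2 z hz)
  have hy0 : y ≠ 0 := by
    rintro rfl
    apply hx z hz
    rw [sub_zero] at hxy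
    rw [hxy, two_smul_eq]
  have hlow := Cfsg.Agent.S0391.result y hy hy0
  have hdvd := Cfsg.Agent.S0392.result y hy
  have hcases : sqNorm y = 32 ∨ sqNorm y = 48 ∨ sqNorm y = 64 := by
    obtain ⟨c, hc⟩ := hdvd
    omega
  have from32 : ∀ a : leechLattice, sqNorm a.1 = 32 → a.1 ∈ M →
      ∀ m : leechLattice, sqNorm m.1 = 32 → m.1 ∈ M := by
    intro a ha haM m hm
    obtain ⟨g, hg⟩ := Cfsg.Agent.S0400.result a m ha hm
    rw [← hg]
    exact hinv g a haM
  have hmin : ∀ m : leechLattice, sqNorm m.1 = 32 → m.1 ∈ M := by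
    rcases hcases with h32 | h48 | h64
    · exact from32 ⟨y, hy⟩ h32 hyM
    · have all48 : ∀ u : leechLattice, sqNorm u.1 = 48 → u.1 ∈ M := by
        intro u hu
        obtain ⟨g, hg⟩ := Cfsg.Agent.S0401.result ⟨y, hy⟩ u h48 hu
        rw [← hg]
        exact hinv g ⟨y, hy⟩ hyM
      have hd : (mR - mR2 : leechLattice).1 ∈ M :=
        M.sub_mem (all48 mR mR_norm) (all48 mR2 mR2_norm)
      exact from32 (mR - mR2) mRR_norm hd
    · have all64 : ∀ u : leechLattice, sqNorm u.1 = 64 → u.1 ∈ M := by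
        intro u hu
        have m1 : (⟨y, hy⟩ : leechLattice) ∈ MulAction.orbit Co0 x0 := by
          rw [orbit_x0]
          exact h64
        have m2 : u ∈ MulAction.orbit Co0 x0 := by
          rw [orbit_x0]
          exact hu
        obtain ⟨g1, hg1⟩ := m1
        obtain ⟨g2, hg2⟩ := m2
        have hg1' : g1 • x0 = (⟨y, hy⟩ : leechLattice) := hg1
        have hg2' : g2 • x0 = u := hg2
        have e : u = (g2 * g1⁻¹) • (⟨y, hy⟩ : leechLattice) := by
          rw [mul_smul, ← hg1', inv_smul_smul, hg2']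
        rw [e]
        exact hinv _ _ hyM
      have hd : (mF1 - mF2 : leechLattice).1 ∈ M :=
        M.sub_mem (all64 mF1 mF1_norm) (all64 mF2 mF2_norm)
      exact from32 (mF1 - mF2) mFF_norm hd
  apply le_antisymm hML
  intro t ht
  obtain ⟨y', hy', hyn', z', hz', hty⟩ := short_rep t ht
  have ht' : t = y' + (2 : ℤ) • z' := by
    rw [two_smul_eq, ← hty]
    abel
  rw [ht']
  apply M.add_mem _ (h2 z' hz')
  by_cases h0 : y' = 0
  · rw [h0]
    exact M.zero_mem
  have hlow' := Cfsg.Agent.S0391.result y' hy' h0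
  have hdvd' := Cfsg.Agent.S0392.result y' hy'
  have hc' : sqNorm y' = 32 ∨ sqNorm y' = 48 ∨ sqNorm y' = 64 := by
    obtain ⟨c, hc⟩ := hdvd'
    omega
  rcases hc' with h32 | h48 | h64
  · exact hmin ⟨y', hy'⟩ h32
  · obtain ⟨g, hg⟩ := Cfsg.Agent.S0401.result mR ⟨y', hy'⟩ mR_norm h48
    have e0 : mR = mAp + mBp := Subtype.ext mR_sum.symm
    have e : (⟨y', hy'⟩ : leechLattice) = g • mAp + g • mBp := by
      rw [← hg, e0, co0_add]
    have e' : y' = (g • mAp : leechLattice).1 + (g • mBp : leechLattice).1 :=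
      congrArg Subtype.val e
    rw [e']
    exact M.add_mem (hmin _ (by rw [co0_norm]; exact mAp_norm))
      (hmin _ (by rw [co0_norm]; exact mBp_norm))
  · have m2 : (⟨y', hy'⟩ : leechLattice) ∈ MulAction.orbit Co0 x0 := by
      rw [orbit_x0]
      exact h64
    obtain ⟨g, hg⟩ := m2
    have hg' : g • x0 = (⟨y', hy'⟩ : leechLattice) := hg
    have e0 : x0 = mA + mB := Subtype.ext mAB_sum.symm
    have e : (⟨y', hy'⟩ : leechLattice) = g • mA + g • mB := by
      rw [← hg', e0, co0_add]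
    have e' : y' = (g • mA : leechLattice).1 + (g • mB : leechLattice).1 :=
      congrArg Subtype.val e
    rw [e']
    exact M.add_mem (hmin _ (by rw [co0_norm]; exact mA_norm))
      (hmin _ (by rw [co0_norm]; exact mB_norm))

end Cfsg.Agent.Helper27
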