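import Mathlib
import Cfsg.Agent.Helper14.PslAdj2

set_option autoImplicit false

namespace Cfsg.Agent.Helper27.PSpRS

open Polynomial

section gen

variable {F V : Type*} [Field F] [AddCommGroup V] [Module F V]

theorem pow_inv_end (B : Module.End F V) (N : Submodule F V) (hN : ∀ v ∈ N, B v ∈ N) (n : ℕ) :
    ∀ v ∈ N, (B ^ n) v ∈ N := by
  induction n with
  | zero =>
    intro v hv
    simpa using hv
  | succ n ih =>
    intro v hv
    rw [pow_succ, Module.End.mul_apply]
    exact ih _ (hN v hv)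

theorem pow_fix_end (T : Module.End F V) (v : V) (h : T v = v) (n : ℕ) : (T ^ n) v = v := by
  induction n with
  | zero => simp
  | succ n ih => rw [pow_succ, Module.End.mul_apply, h, ih]

theorem aeval_inv (B : Module.End F V) (N : Submodule F V) (hN : ∀ v ∈ N, B v ∈ N) (g : F[X]) :
    ∀ v ∈ N, aeval B g v ∈ N := by
  refine Polynomial.induction_on' (motive := fun g => ∀ v ∈ N, aeval B g v ∈ N) g
    (fun p q hp hq => ?_) (fun n a => ?_)
  · intro v hv
    rw [map_add, LinearMap.add_apply]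
    exact N.add_mem (hp v hv) (hq v hv)
  · intro v hv
    rw [aeval_monomial, Module.End.mul_apply, Module.algebraMap_end_apply]
    exact N.smul_mem _ (pow_inv_end B N hN n v hv)

theorem comm_aeval (A B : Module.End F V) (hAB : A * B = B * A) (g : F[X]) :
    A * aeval B g = aeval B g * A := by
  refine Polynomial.induction_on' (motive := fun g => A * aeval B g = aeval B g * A) g
    (fun p q hp hq => ?_) (fun n a => ?_)
  · rw [map_add, mul_add, add_mul, hp, hq]
  · have h1 : A * B ^ n = B ^ n * A := (Commute.pow_right (show Commute A B from hAB) n).eq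
    rw [aeval_monomial, ← Algebra.smul_def, mul_smul_comm, smul_mul_assoc, h1]

theorem adj_pow (f : LinearMap.BilinForm F V) (B B' : Module.End F V)
    (h : ∀ x y, f x (B y) = f (B' x) y) (n : ℕ) :
    ∀ x y, f x ((B ^ n) y) = f ((B' ^ n) x) y := by
  induction n with
  | zero =>
    intro x y
    simp
  | succ n ih =>
    intro x y
    rw [pow_succ', Module.End.mul_apply, h, ih, pow_succ, Module.End.mul_apply]

theorem adj_aeval (f : LinearMap.BilinForm F V) (B B' : Module.End F V)
    (h : ∀ x y, f x (B y) = f (B' x) y) (g : F[X]) :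
    ∀ x y, f x (aeval B g y) = f (aeval B' g x) y := by
  refine Polynomial.induction_on'
    (motive := fun g => ∀ x y, f x (aeval B g y) = f (aeval B' g x) y) g
    (fun p q hp hq => ?_) (fun n a => ?_)
  · intro x y
    simp only [map_add, LinearMap.add_apply, hp, hq]
  · intro x y
    simp only [aeval_monomial, Module.End.mul_apply, Module.algebraMap_end_apply, map_smul,
      LinearMap.smul_apply, adj_pow f B B' h n]

theorem expand_pow_card [Fintype F] (g : F[X]) (m : ℕ) :
    expand F (Fintype.card F ^ m) g = g ^ (Fintype.card F ^ m) := by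
  induction m with
  | zero => simp
  | succ m ih => rw [pow_succ, expand_mul, FiniteField.expand_card, map_pow, ih, ← pow_mul]

end gen

/-- (P3 for S2469) the `l`-even structural lemma. -/
theorem x1 {F V : Type*} [Field F] [Fintype F] [AddCommGroup V] [Module F V] [Finite V]
    (f : LinearMap.BilinForm F V) (halt : ∀ v, f v v = 0) (hnd : ∀ v, (∀ w, f v w = 0) → v = 0)
    (r s : ℕ) [Fact r.Prime] [Fact s.Prime] (hrq : ¬ r ∣ Fintype.card F)
    (hsq : ¬ s ∣ Fintype.card F)
    (A B : Module.End F V) (hAf : ∀ u v, f (A u) (A v) = f u v)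
    (hBf : ∀ u v, f (B u) (B v) = f u v)
    (hA : A ^ r = 1) (hB : B ^ s = 1) (hAB : A * B = B * A)
    (hker : LinearMap.ker (A - 1) = LinearMap.ker (B - 1))
    (m : ℕ) (hm : 0 < m) (hl : orderOf ((Fintype.card F : ℕ) : ZMod s) = 2 * m)
    (hdim : Module.finrank F ↥(LinearMap.ker (B - 1)) + 2 * m = Module.finrank F V) :
    r ∣ Fintype.card F ^ m + 1 := by
  classical
  have hrP := (Fact.out : r.Prime)
  have hsP := (Fact.out : s.Prime)
  have hsF : (s : F) ≠ 0 := by
    obtain ⟨p, hp⟩ := CharP.exists F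
    haveI := hp
    haveI : Fact p.Prime := ⟨CharP.char_is_prime F p⟩
    intro h
    have h1 := (CharP.cast_eq_zero_iff F p s).1 h
    have h2 := (Nat.prime_dvd_prime_iff_eq (Fact.out : p.Prime) hsP).1 h1
    obtain ⟨n, -, hcard⟩ := FiniteField.card F p
    apply hsq
    rw [hcard, ← h2]
    exact dvd_pow_self p n.ne_zero
  have mem_E : ∀ v, v ∈ LinearMap.ker (B - 1) ↔ B v = v := by
    intro v
    rw [LinearMap.mem_ker, LinearMap.sub_apply, Module.End.one_apply, sub_eq_zero]
  have hS1 : (∑ i ∈ Finset.range s, B ^ i) * (B - 1) = 0 := by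
    rw [geom_sum_mul, hB, sub_self]
  have hUE : ∀ v ∈ LinearMap.range (B - 1), B v = v → v = 0 := by
    rintro _ ⟨w, rfl⟩ hv
    have h1 : (∑ i ∈ Finset.range s, B ^ i) ((B - 1) w) = 0 := by
      rw [← Module.End.mul_apply, hS1]
      rfl
    have h2 : (∑ i ∈ Finset.range s, B ^ i) ((B - 1) w) = (s : F) • ((B - 1) w) := by
      rw [LinearMap.sum_apply, Finset.sum_congr rfl (fun i _ => pow_fix_end B _ hv i),
        Finset.sum_const, Finset.card_range, Nat.cast_smul_eq_nsmul]
    rw [h2] at h1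
    exact (smul_eq_zero.1 h1).resolve_left hsF
  have hrn := LinearMap.finrank_range_add_finrank_ker (B - 1)
  have hUd : Module.finrank F (LinearMap.range (B - 1)) = 2 * m := by omega
  have hdisj : Disjoint (LinearMap.range (B - 1)) (LinearMap.ker (B - 1)) := by
    rw [Submodule.disjoint_def]
    intro v hv hv'
    exact hUE v hv ((mem_E v).1 hv')
  have hsup : LinearMap.range (B - 1) ⊔ LinearMap.ker (B - 1) = ⊤ :=
    Submodule.eq_top_of_disjoint _ _ (by omega) hdisj
  have hUB : ∀ v ∈ LinearMap.range (B - 1), B v ∈ LinearMap.range (B - 1) := by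
    rintro _ ⟨w, rfl⟩
    refine ⟨B w, ?_⟩
    simp only [LinearMap.sub_apply, Module.End.one_apply, map_sub]
  have hUA : ∀ v ∈ LinearMap.range (B - 1), A v ∈ LinearMap.range (B - 1) := by
    rintro _ ⟨w, rfl⟩
    refine ⟨A w, ?_⟩
    have h1 : A (B w) = B (A w) := by
      rw [← Module.End.mul_apply, hAB, Module.End.mul_apply]
    simp only [LinearMap.sub_apply, Module.End.one_apply, map_sub, h1]
  have hperpL : ∀ u ∈ LinearMap.range (B - 1), ∀ e, B e = e → f u e = 0 := by
    rintro _ ⟨w, rfl⟩ e he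
    have h1 := hBf w e
    rw [he] at h1
    rw [LinearMap.sub_apply, Module.End.one_apply, map_sub, LinearMap.sub_apply, h1, sub_self]
  have hUne : LinearMap.range (B - 1) ≠ ⊥ := by
    intro h
    rw [h, finrank_bot] at hUd
    omega
  obtain ⟨u₀, hu₀U, hu₀⟩ := (Submodule.ne_bot_iff _).1 hUne
  let φ : F[X] →ₗ[F] V := (LinearMap.applyₗ u₀).comp (Polynomial.aeval B).toLinearMap
  have hφ : ∀ g : F[X], φ g = aeval B g u₀ := fun g => rfl
  have hWU : LinearMap.range φ ≤ LinearMap.range (B - 1) := by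
    rintro _ ⟨g, rfl⟩
    rw [hφ]
    exact aeval_inv B _ hUB g u₀ hu₀U
  have hWB : ∀ w ∈ LinearMap.range φ, B w ∈ LinearMap.range φ := by
    rintro _ ⟨g, rfl⟩
    refine ⟨X * g, ?_⟩
    rw [hφ, hφ, map_mul, aeval_X, Module.End.mul_apply]
  have hWE : LinearMap.range φ ⊓ LinearMap.ker (B - 1) = ⊥ := by
    rw [Submodule.eq_bot_iff]
    rintro v ⟨hv1, hv2⟩
    exact hUE v (hWU hv1) ((mem_E v).1 hv2)
  have hfd := Helper14.PslAdj2.fix_dvd s hsq B hB (LinearMap.range φ) hWB
  rw [hWE, finrank_bot, Nat.sub_zero, hl] at hfd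
  have hWne : LinearMap.range φ ≠ ⊥ := by
    intro h
    have h1 : u₀ ∈ LinearMap.range φ := ⟨1, by rw [hφ, map_one, Module.End.one_apply]⟩
    rw [h, Submodule.mem_bot] at h1
    exact hu₀ h1
  have hWd : 2 * m ≤ Module.finrank F (LinearMap.range φ) :=
    Nat.le_of_dvd (Nat.pos_of_ne_zero (fun h => hWne (Submodule.finrank_eq_zero.1 h))) hfd
  have hWeq : LinearMap.range φ = LinearMap.range (B - 1) :=
    Submodule.eq_of_le_of_finrank_le hWU (by omega)
  have hcyc : ∀ v ∈ LinearMap.range (B - 1), ∃ h : F[X], aeval B h u₀ = v := by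
    intro v hv
    rw [← hWeq] at hv
    obtain ⟨h, hh⟩ := hv
    exact ⟨h, hh⟩
  obtain ⟨g, hg⟩ := hcyc (A u₀) (hUA u₀ hu₀U)
  have hAg : ∀ v ∈ LinearMap.range (B - 1), A v = aeval B g v := by
    intro v hv
    obtain ⟨h, rfl⟩ := hcyc v hv
    have h1 : A (aeval B h u₀) = aeval B h (A u₀) := by
      rw [← Module.End.mul_apply, comm_aeval A B hAB h, Module.End.mul_apply]
    rw [h1, ← hg, ← Module.End.mul_apply, ← Module.End.mul_apply, ← map_mul, ← map_mul, mul_comm]
  have hsone : 1 ≤ s := hsP.one_lt.le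
  have hBB' : B * B ^ (s - 1) = 1 := by
    rw [← pow_succ', Nat.sub_add_cancel hsone, hB]
  have hadj : ∀ x y, f x (B y) = f ((B ^ (s - 1)) x) y := by
    intro x y
    have h1 := hBf ((B ^ (s - 1)) x) y
    rw [← Module.End.mul_apply, hBB', Module.End.one_apply] at h1
    exact h1
  have hadjg := adj_aeval f B (B ^ (s - 1)) hadj g
  have hUB' : ∀ v ∈ LinearMap.range (B - 1), (B ^ (s - 1)) v ∈ LinearMap.range (B - 1) :=
    pow_inv_end B _ hUB (s - 1)
  have hstar : ∀ u ∈ LinearMap.range (B - 1), aeval (B ^ (s - 1)) g (aeval B g u) = u := by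
    intro u hu
    have hgu : aeval B g u ∈ LinearMap.range (B - 1) := aeval_inv B _ hUB g u hu
    have hz : aeval (B ^ (s - 1)) g (aeval B g u) - u ∈ LinearMap.range (B - 1) :=
      Submodule.sub_mem _ (aeval_inv (B ^ (s - 1)) _ hUB' g _ hgu) hu
    have h0 : aeval (B ^ (s - 1)) g (aeval B g u) - u = 0 := by
      apply hnd
      intro v
      have hv : v ∈ LinearMap.range (B - 1) ⊔ LinearMap.ker (B - 1) := by
        rw [hsup]
        trivial
      obtain ⟨x, hx, e, he, rfl⟩ := Submodule.mem_sup.1 hv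
      rw [map_add, hperpL _ hz e ((mem_E e).1 he), add_zero, map_sub, LinearMap.sub_apply,
        ← hadjg, ← hAg u hu, ← hAg x hx, hAf, sub_self]
    exact sub_eq_zero.1 h0
  -- s ∣ q^m + 1
  have hsdvd : s ∣ Fintype.card F ^ m + 1 := by
    have hq2 : ((Fintype.card F : ℕ) : ZMod s) ^ m * ((Fintype.card F : ℕ) : ZMod s) ^ m = 1 := by
      rw [← pow_add, ← two_mul, ← hl]
      exact pow_orderOf_eq_one _
    have hqm : ((Fintype.card F : ℕ) : ZMod s) ^ m ≠ 1 := by
      intro h
      have h1 := orderOf_dvd_of_pow_eq_one h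
      rw [hl] at h1
      have h2 := Nat.le_of_dvd hm h1
      omega
    have h3 : ((Fintype.card F : ℕ) : ZMod s) ^ m = -1 := by
      have h4 : (((Fintype.card F : ℕ) : ZMod s) ^ m - 1) *
          (((Fintype.card F : ℕ) : ZMod s) ^ m + 1) = 0 := by
        linear_combination hq2
      rcases mul_eq_zero.1 h4 with h5 | h5
      · exact absurd (sub_eq_zero.1 h5) hqm
      · exact eq_neg_of_add_eq_zero_left h5
    apply (ZMod.natCast_eq_zero_iff _ s).1
    rw [Nat.cast_add, Nat.cast_pow, Nat.cast_one, h3, neg_add_cancel]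
  obtain ⟨t, ht⟩ := hsdvd
  have ht1 : 1 ≤ t := by
    rcases t with _ | t
    · rw [Nat.mul_zero] at ht
      omega
    · omega
  have hBq : B ^ (Fintype.card F ^ m) = B ^ (s - 1) := by
    have h1 : Fintype.card F ^ m = s * (t - 1) + (s - 1) := by
      have h2 : s * t = s * (t - 1) + s := by
        conv_lhs => rw [show t = (t - 1) + 1 by omega]
        ring
      omega
    rw [h1, pow_add, pow_mul, hB, one_pow, one_mul]
  have hfrob : aeval (B ^ (s - 1)) g = (aeval B g) ^ (Fintype.card F ^ m) := by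
    rw [← hBq, ← expand_aeval, expand_pow_card, map_pow]
  have hG : ∀ u ∈ LinearMap.range (B - 1),
      ((aeval B g) ^ (Fintype.card F ^ m + 1)) u = u := by
    intro u hu
    rw [pow_succ, Module.End.mul_apply, ← hfrob]
    exact hstar u hu
  have hAG : ∀ j : ℕ, ∀ u ∈ LinearMap.range (B - 1), (A ^ j) u = ((aeval B g) ^ j) u := by
    intro j
    induction j with
    | zero =>
      intro u _
      simp
    | succ j ih =>
      intro u hu
      rw [pow_succ, Module.End.mul_apply, pow_succ, Module.End.mul_apply, ih _ (hUA u hu),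
        hAg u hu]
  by_contra hnot
  have hcop : Nat.Coprime (Fintype.card F ^ m + 1) r :=
    Nat.Coprime.symm ((Nat.Prime.coprime_iff_not_dvd hrP).2 hnot)
  obtain ⟨c, -, hc⟩ := Nat.exists_mul_mod_eq_one_of_coprime hcop hrP.one_lt
  have hdecomp : (Fintype.card F ^ m + 1) * c =
      r * ((Fintype.card F ^ m + 1) * c / r) + 1 := by
    have h1 := Nat.div_add_mod ((Fintype.card F ^ m + 1) * c) r
    rw [hc] at h1
    exact h1.symm
  have hfixA : ∀ u ∈ LinearMap.range (B - 1), A u = u := by
    intro u hu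
    have h1 : (A ^ ((Fintype.card F ^ m + 1) * c)) u = u := by
      rw [hAG _ u hu, pow_mul]
      exact pow_fix_end _ u (hG u hu) c
    have h2 : (A ^ ((Fintype.card F ^ m + 1) * c)) u = A u := by
      rw [hdecomp, pow_succ, pow_mul, hA, one_pow, one_mul]
    rw [← h2, h1]
  have h3 : u₀ ∈ LinearMap.ker (A - 1) := by
    rw [LinearMap.mem_ker, LinearMap.sub_apply, Module.End.one_apply, hfixA u₀ hu₀U, sub_self]
  rw [hker] at h3
  exact hu₀ (hUE u₀ hu₀U ((mem_E u₀).1 h3))

end Cfsg.Agent.Helper27.PSpRS
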