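import Mathlib

set_option autoImplicit false

namespace Cfsg.Agent.Helper27.Psl3x

open Polynomial Matrix

variable {F : Type*} [Field F]

/-- Cayley–Hamilton: if the characteristic polynomial divides `X ^ e - c` then `M ^ e = c`. -/
theorem pow_of_dvd (M : Matrix (Fin 3) (Fin 3) F) (e : ℕ) (c : F)
    (h : M.charpoly ∣ X ^ e - C c) : M ^ e = c • (1 : Matrix (Fin 3) (Fin 3) F) := by
  obtain ⟨g, hg⟩ := h
  have h1 := congrArg (Polynomial.aeval M) hg
  rw [map_mul, Matrix.aeval_self_charpoly, zero_mul, map_sub, map_pow, aeval_X, aeval_C,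
    sub_eq_zero] at h1
  rw [h1, Algebra.algebraMap_eq_smul_one]

theorem prod_eq_one (M : Matrix (Fin 3) (Fin 3) F) (hdet : M.det = 1) (lam mu nu : F)
    (hchar : M.charpoly = (X - C lam) * ((X - C mu) * (X - C nu))) : lam * mu * nu = 1 := by
  have h1 := Matrix.det_eq_sign_charpoly_coeff M
  rw [hdet, hchar, Fintype.card_fin, Polynomial.coeff_zero_eq_eval_zero] at h1
  simp only [eval_mul, eval_sub, eval_X, eval_C] at h1
  linear_combination (-1 : F) * h1

theorem case_distinct [Fintype F] (M : Matrix (Fin 3) (Fin 3) F) (lam mu nu : F)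
    (h0 : lam ≠ 0 ∧ mu ≠ 0 ∧ nu ≠ 0) (h1 : lam ≠ mu) (h2 : lam ≠ nu) (h3 : mu ≠ nu)
    (hchar : M.charpoly = (X - C lam) * ((X - C mu) * (X - C nu))) :
    M ^ (Fintype.card F - 1) = (1 : F) • (1 : Matrix (Fin 3) (Fin 3) F) := by
  apply pow_of_dvd
  rw [hchar]
  have hroot : ∀ a : F, a ≠ 0 → (X - C a) ∣ (X ^ (Fintype.card F - 1) - C (1 : F)) := by
    intro a ha
    rw [dvd_iff_isRoot]
    simp [FiniteField.pow_card_sub_one_eq_one a ha]
  have hcop : ∀ a b : F, a ≠ b → IsCoprime (X - C a) (X - C b) := fun a b hab =>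
    isCoprime_X_sub_C_of_isUnit_sub (sub_ne_zero.2 hab).isUnit
  exact IsCoprime.mul_dvd (IsCoprime.mul_right (hcop _ _ h1) (hcop _ _ h2)) (hroot _ h0.1)
    (IsCoprime.mul_dvd (hcop _ _ h3) (hroot _ h0.2.1) (hroot _ h0.2.2))

theorem exp_eq (p q : ℕ) : ∃ e', q - 1 = Nat.gcd 3 (q - 1) * e' ∧
    p * (q - 1) / Nat.gcd 3 (q - 1) = e' * p := by
  obtain ⟨e', he'⟩ := Nat.gcd_dvd_right 3 (q - 1)
  refine ⟨e', he', ?_⟩
  have hpos : 0 < Nat.gcd 3 (q - 1) := Nat.gcd_pos_of_pos_left _ (by norm_num)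
  have h1 : p * (q - 1) = Nat.gcd 3 (q - 1) * (e' * p) := by
    conv_lhs => rw [he']
    ring
  rw [h1, Nat.mul_div_cancel_left _ hpos]

theorem case_two [Fintype F] (p : ℕ) [Fact p.Prime] [CharP F p] (M : Matrix (Fin 3) (Fin 3) F)
    (a b : F) (hab : a ≠ b) (hprod : a * a * b = 1)
    (hchar : M.charpoly = (X - C a) ^ 2 * (X - C b)) :
    ∃ c : F, M ^ (p * (Fintype.card F - 1) / Nat.gcd 3 (Fintype.card F - 1)) =
      c • (1 : Matrix (Fin 3) (Fin 3) F) := by
  obtain ⟨e', he', he⟩ := exp_eq p (Fintype.card F)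
  rw [he]
  refine ⟨a ^ (e' * p), pow_of_dvd M _ _ ?_⟩
  rw [hchar]
  have ha0 : a ≠ 0 := by
    rintro rfl
    simp at hprod
  have h1 : (X - C a) ^ 2 ∣ X ^ (e' * p) - C (a ^ (e' * p)) := by
    have h2 : (X - C a) ∣ X ^ e' - C (a ^ e') := by
      rw [dvd_iff_isRoot]
      simp
    have h3 : X ^ (e' * p) - C (a ^ (e' * p)) = (X ^ e' - C (a ^ e')) ^ p := by
      rw [sub_pow_char, ← pow_mul, ← C_pow, ← pow_mul]
    rw [h3]
    exact (pow_dvd_pow _ (Fact.out : p.Prime).two_le).trans (pow_dvd_pow_of_dvd h2 p)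
  have h4 : (X - C b) ∣ X ^ (e' * p) - C (a ^ (e' * p)) := by
    rw [dvd_iff_isRoot]
    simp only [IsRoot, eval_sub, eval_pow, eval_X, eval_C]
    rw [sub_eq_zero]
    have ha3 : a ^ (3 * e') = 1 := by
      have h5 : Fintype.card F - 1 ∣ 3 * e' := by
        rw [he']
        exact Nat.mul_dvd_mul_right (Nat.gcd_dvd_left 3 (Fintype.card F - 1)) e'
      obtain ⟨t, ht⟩ := h5
      rw [ht, pow_mul, FiniteField.pow_card_sub_one_eq_one a ha0, one_pow]
    have h5 : b ^ (e' * p) * (a ^ (e' * p)) ^ 2 = 1 := by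
      have h6 : b ^ (e' * p) * (a ^ (e' * p)) ^ 2 = (a * a * b) ^ (e' * p) := by ring
      rw [h6, hprod, one_pow]
    have h6 : (a ^ (e' * p)) ^ 3 = 1 := by
      have h7 : (a ^ (e' * p)) ^ 3 = (a ^ (3 * e')) ^ p := by ring
      rw [h7, ha3, one_pow]
    calc b ^ (e' * p) = b ^ (e' * p) * (a ^ (e' * p)) ^ 3 := by rw [h6, mul_one]
      _ = (b ^ (e' * p) * (a ^ (e' * p)) ^ 2) * a ^ (e' * p) := by ring
      _ = a ^ (e' * p) := by rw [h5, one_mul]
  exact IsCoprime.mul_dvd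
    (IsCoprime.pow_left (isCoprime_X_sub_C_of_isUnit_sub (sub_ne_zero.2 hab).isUnit)) h1 h4

theorem case_all [Fintype F] (p : ℕ) [Fact p.Prime] [CharP F p] (M : Matrix (Fin 3) (Fin 3) F)
    (a : F) (hchar : M.charpoly = (X - C a) ^ 3) :
    (∃ c : F, M ^ (p * (Fintype.card F - 1) / Nat.gcd 3 (Fintype.card F - 1)) =
      c • (1 : Matrix (Fin 3) (Fin 3) F)) ∨
    (p = 2 ∧ ∃ c : F, M ^ 4 = c • (1 : Matrix (Fin 3) (Fin 3) F)) := by
  by_cases hp2 : p = 2
  · right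
    refine ⟨hp2, a ^ 4, pow_of_dvd M 4 _ ?_⟩
    rw [hchar]
    subst hp2
    have e1 : (X - C a) ^ 2 = X ^ 2 - C a ^ 2 := sub_pow_char _ _
    have e2 : (X ^ 2 - C a ^ 2 : F[X]) ^ 2 = (X ^ 2) ^ 2 - (C a ^ 2) ^ 2 := sub_pow_char _ _
    have h3 : X ^ 4 - C (a ^ 4) = (X - C a) ^ 4 := by
      have e3 : (X - C a) ^ 4 = ((X - C a) ^ 2) ^ 2 := by ring
      rw [e3, e1, e2, C_pow]
      ring
    rw [h3]
    exact pow_dvd_pow _ (by norm_num)
  · left
    obtain ⟨e', -, he⟩ := exp_eq p (Fintype.card F)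
    have hp3 : 3 ≤ p := by
      have := (Fact.out : p.Prime).two_le
      omega
    have hMp : M ^ p = a ^ p • (1 : Matrix (Fin 3) (Fin 3) F) := by
      apply pow_of_dvd
      rw [hchar]
      have h3 : X ^ p - C (a ^ p) = (X - C a) ^ p := by
        rw [sub_pow_char, ← C_pow]
      rw [h3]
      exact pow_dvd_pow _ hp3
    refine ⟨(a ^ p) ^ e', ?_⟩
    rw [he, Nat.mul_comm, pow_mul, hMp, _root_.smul_pow, one_pow]

/-- (T3 for S2476) The split case: the characteristic polynomial is a product of linear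
factors. -/
theorem case_split {F : Type*} [Field F] [Fintype F] (p : ℕ) [Fact p.Prime] [CharP F p]
    (M : Matrix (Fin 3) (Fin 3) F) (hdet : M.det = 1) (lam mu nu : F)
    (hchar : M.charpoly = (Polynomial.X - Polynomial.C lam) *
      ((Polynomial.X - Polynomial.C mu) * (Polynomial.X - Polynomial.C nu))) :
    (∃ c : F, M ^ (Fintype.card F - 1) = c • (1 : Matrix (Fin 3) (Fin 3) F)) ∨
    (∃ c : F, M ^ (p * (Fintype.card F - 1) / Nat.gcd 3 (Fintype.card F - 1)) =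
      c • (1 : Matrix (Fin 3) (Fin 3) F)) ∨
    (p = 2 ∧ ∃ c : F, M ^ 4 = c • (1 : Matrix (Fin 3) (Fin 3) F)) := by
  have hprod := prod_eq_one M hdet lam mu nu hchar
  have h0 : lam ≠ 0 ∧ mu ≠ 0 ∧ nu ≠ 0 := by
    refine ⟨?_, ?_, ?_⟩ <;> rintro rfl <;> simp at hprod
  by_cases h1 : lam = mu
  · by_cases h2 : mu = nu
    · rw [h1, h2] at hchar
      rcases case_all p M nu (by rw [hchar]; ring) with h | h
      · exact Or.inr (Or.inl h)
      · exact Or.inr (Or.inr h)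
    · rw [h1] at hchar hprod
      exact Or.inr (Or.inl (case_two p M mu nu h2 hprod (by rw [hchar]; ring)))
  · by_cases h2 : mu = nu
    · rw [h2] at hchar hprod
      have hab : nu ≠ lam := fun h => h1 (by rw [h2, h])
      exact Or.inr (Or.inl (case_two p M nu lam hab (by rw [← hprod]; ring)
        (by rw [hchar]; ring)))
    · by_cases h3 : lam = nu
      · rw [h3] at hchar hprod
        have hab : nu ≠ mu := fun h => h2 h.symm
        exact Or.inr (Or.inl (case_two p M nu mu hab (by rw [← hprod]; ring)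
          (by rw [hchar]; ring)))
      · exact Or.inl ⟨1, case_distinct M lam mu nu h0 h1 h3 h2 hchar⟩

end Cfsg.Agent.Helper27.Psl3x
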