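import Mathlib
import Cfsg.Agent.Helper27.SpE1

set_option autoImplicit false

namespace Cfsg.Agent.Helper27.SpE2

open Matrix

variable {F : Type*} [Field F] [Fintype F] (d : ℕ)

/-- The extremal case: `k = d` odd and `A` fixed-point-free cannot commute with a nontrivial
element of order `p`. -/
theorem hard_case (p : ℕ) [Fact p.Prime] [CharP F p]
    (A B : Matrix (Fin d ⊕ Fin d) (Fin d ⊕ Fin d) F)
    (hA : ∀ u v, Cfsg.sympForm d F (A *ᵥ u) (A *ᵥ v) = Cfsg.sympForm d F u v)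
    (hB : ∀ u v, Cfsg.sympForm d F (B *ᵥ u) (B *ᵥ v) = Cfsg.sympForm d F u v)
    (hAB : A * B = B * A) (r : ℕ) [Fact r.Prime] (hr2 : r ≠ 2)
    (hAr : A ^ r = 1) (hBp : B ^ p = 1) (hB1 : B ≠ 1)
    (hC : ∀ v, A *ᵥ v = v → v = 0)
    (hk : orderOf ((Fintype.card F : ℕ) : ZMod r) = d) (hodd : Odd d) : False := by
  classical
  have hd1 : 1 ≤ d := hodd.pos
  have hA' : ∀ u v, S0766.sB d F (A *ᵥ u) (A *ᵥ v) = S0766.sB d F u v := fun u v => by
    rw [S0766.sB_apply, S0766.sB_apply]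
    exact hA u v
  have hB' : ∀ u v, S0766.sB d F (B *ᵥ u) (B *ᵥ v) = S0766.sB d F u v := fun u v => by
    rw [S0766.sB_apply, S0766.sB_apply]
    exact hB u v
  have skew : ∀ a b : Fin d ⊕ Fin d → F, S0766.sB d F a b = - S0766.sB d F b a :=
    fun a b => ((S0766.sB_alt d F).neg_eq b a).symm
  have hLinv : ∀ v ∈ LinearMap.ker (Matrix.toLin' (B - 1)),
      A *ᵥ v ∈ LinearMap.ker (Matrix.toLin' (B - 1)) := SpE1.comm_ker B A hAB.symm
  have hRinvA : ∀ v ∈ LinearMap.range (Matrix.toLin' (B - 1)),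
      A *ᵥ v ∈ LinearMap.range (Matrix.toLin' (B - 1)) := SpE1.comm_range B A hAB.symm
  have hRinvB : ∀ v ∈ LinearMap.range (Matrix.toLin' (B - 1)),
      B *ᵥ v ∈ LinearMap.range (Matrix.toLin' (B - 1)) := SpE1.comm_range B B rfl
  have htop : (⊤ : Submodule F (Fin d ⊕ Fin d → F)) ≠ ⊥ := by
    intro h
    have h1 := congrArg (fun S : Submodule F (Fin d ⊕ Fin d → F) => Module.finrank F S) h
    simp only [finrank_top, finrank_bot, SpD3.finrank_V] at h1
    omega
  have hL0 : LinearMap.ker (Matrix.toLin' (B - 1)) ≠ ⊥ := by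
    obtain ⟨w, -, hw0, hw⟩ := SpE1.fixed_vec p B hBp ⊤ (fun v _ => trivial) htop
    intro h
    have h1 : w ∈ LinearMap.ker (Matrix.toLin' (B - 1)) := (SpE1.mem_ker_iff B w).2 hw
    rw [h, Submodule.mem_bot] at h1
    exact hw0 h1
  have hLtop : LinearMap.ker (Matrix.toLin' (B - 1)) ≠ ⊤ := by
    intro h
    apply hB1
    have h1 : Matrix.toLin' (B - 1) = 0 := LinearMap.ker_eq_top.1 h
    have h2 : B - 1 = 0 := (LinearEquiv.map_eq_zero_iff Matrix.toLin').1 h1
    exact sub_eq_zero.1 h2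
  have hkL : d ∣ Module.finrank F (LinearMap.ker (Matrix.toLin' (B - 1))) := by
    have h1 := SpE1.k_dvd A r hAr _ hLinv (fun v _ hv => hC v hv)
    rwa [hk] at h1
  have hrn := LinearMap.finrank_range_add_finrank_ker (Matrix.toLin' (B - 1))
  rw [SpD3.finrank_V] at hrn
  have hLpos : 0 < Module.finrank F (LinearMap.ker (Matrix.toLin' (B - 1))) :=
    Nat.pos_of_ne_zero (fun h => hL0 (Submodule.finrank_eq_zero.1 h))
  have hLlt : Module.finrank F (LinearMap.ker (Matrix.toLin' (B - 1))) < 2 * d := by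
    by_contra hge
    push Not at hge
    apply hLtop
    apply Submodule.eq_top_of_finrank_eq
    rw [SpD3.finrank_V]
    omega
  have hLd : Module.finrank F (LinearMap.ker (Matrix.toLin' (B - 1))) = d := by
    obtain ⟨t, ht⟩ := hkL
    rcases Nat.lt_or_ge t 1 with h | h
    · rw [Nat.lt_one_iff.1 h, Nat.mul_zero] at ht
      omega
    · rcases Nat.lt_or_ge t 2 with h' | h'
      · have ht1 : t = 1 := by omega
        rw [ht1, Nat.mul_one] at ht
        exact ht
      · have h3 := Nat.mul_le_mul_left d h'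
        rw [← ht] at h3
        omega
  have hRd : Module.finrank F (LinearMap.range (Matrix.toLin' (B - 1))) = d := by omega
  -- the intersection of range and kernel
  have hkI : d ∣ Module.finrank F ↥(LinearMap.range (Matrix.toLin' (B - 1)) ⊓
      LinearMap.ker (Matrix.toLin' (B - 1))) := by
    have h1 := SpE1.k_dvd A r hAr (LinearMap.range (Matrix.toLin' (B - 1)) ⊓
      LinearMap.ker (Matrix.toLin' (B - 1)))
      (fun v hv => ⟨hRinvA v hv.1, hLinv v hv.2⟩) (fun v _ hv => hC v hv)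
    rwa [hk] at h1
  have hIle : Module.finrank F ↥(LinearMap.range (Matrix.toLin' (B - 1)) ⊓
      LinearMap.ker (Matrix.toLin' (B - 1))) ≤ d := by
    have h1 := Submodule.finrank_mono (inf_le_left :
      LinearMap.range (Matrix.toLin' (B - 1)) ⊓ LinearMap.ker (Matrix.toLin' (B - 1)) ≤
        LinearMap.range (Matrix.toLin' (B - 1)))
    omega
  have hI0 : Module.finrank F ↥(LinearMap.range (Matrix.toLin' (B - 1)) ⊓
      LinearMap.ker (Matrix.toLin' (B - 1))) ≠ 0 := by
    intro h0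
    have hbot := Submodule.finrank_eq_zero.1 h0
    have hRne : LinearMap.range (Matrix.toLin' (B - 1)) ≠ ⊥ := by
      intro h
      rw [h, finrank_bot] at hRd
      omega
    obtain ⟨w, hwR, hw0, hw⟩ := SpE1.fixed_vec p B hBp _ hRinvB hRne
    have h1 : w ∈ LinearMap.range (Matrix.toLin' (B - 1)) ⊓
        LinearMap.ker (Matrix.toLin' (B - 1)) := ⟨hwR, (SpE1.mem_ker_iff B w).2 hw⟩
    rw [hbot, Submodule.mem_bot] at h1
    exact hw0 h1
  have hId : Module.finrank F ↥(LinearMap.range (Matrix.toLin' (B - 1)) ⊓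
      LinearMap.ker (Matrix.toLin' (B - 1))) = d := by
    obtain ⟨t, ht⟩ := hkI
    rcases Nat.lt_or_ge t 1 with h | h
    · rw [Nat.lt_one_iff.1 h, Nat.mul_zero] at ht
      exact absurd ht hI0
    · rcases Nat.lt_or_ge t 2 with h' | h'
      · have ht1 : t = 1 := by omega
        rw [ht1, Nat.mul_one] at ht
        exact ht
      · have h3 := Nat.mul_le_mul_left d h'
        rw [← ht] at h3
        omega
  have hIR : LinearMap.range (Matrix.toLin' (B - 1)) ⊓ LinearMap.ker (Matrix.toLin' (B - 1)) =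
      LinearMap.range (Matrix.toLin' (B - 1)) :=
    Submodule.eq_of_le_of_finrank_le inf_le_left (by omega)
  have hRleL : LinearMap.range (Matrix.toLin' (B - 1)) ≤ LinearMap.ker (Matrix.toLin' (B - 1)) := by
    rw [← hIR]
    exact inf_le_right
  -- N-facts
  have hNmem : ∀ v : Fin d ⊕ Fin d → F, B *ᵥ v - v ∈ LinearMap.range (Matrix.toLin' (B - 1)) :=
    fun v => ⟨v, by rw [Matrix.toLin'_apply, Matrix.sub_mulVec, Matrix.one_mulVec]⟩
  have hNN : ∀ v : Fin d ⊕ Fin d → F, B *ᵥ (B *ᵥ v - v) = B *ᵥ v - v :=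
    fun v => (SpE1.mem_ker_iff B _).1 (hRleL (hNmem v))
  have hperp : ∀ x c : Fin d ⊕ Fin d → F, B *ᵥ c = c → S0766.sB d F (B *ᵥ x - x) c = 0 := by
    intro x c hc
    rw [S0766.sB_apply]
    exact SpE1.range_perp_ker d B hB _ (hNmem x) c hc
  have hsym : ∀ x y : Fin d ⊕ Fin d → F,
      S0766.sB d F x (B *ᵥ y - y) = S0766.sB d F y (B *ᵥ x - x) := by
    intro x y
    have h1 := hB' x y
    have h2 := hperp x (B *ᵥ y - y) (hNN y)
    rw [map_sub, map_sub, LinearMap.sub_apply, LinearMap.sub_apply] at h2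
    have s1 := skew y (B *ᵥ x)
    have s2 := skew y x
    rw [map_sub, map_sub]
    linear_combination (-1) * h2 + h1 - s1 + s2
  have hinvA : ∀ x y : Fin d ⊕ Fin d → F,
      S0766.sB d F (A *ᵥ x) (B *ᵥ (A *ᵥ y) - A *ᵥ y) = S0766.sB d F x (B *ᵥ y - y) := by
    intro x y
    have h1 : B *ᵥ (A *ᵥ y) - A *ᵥ y = A *ᵥ (B *ᵥ y - y) := by
      rw [Matrix.mulVec_sub, Matrix.mulVec_mulVec, Matrix.mulVec_mulVec, hAB]
    rw [h1, hA']
  have hAA' : A * A ^ (r - 1) = 1 := by
    rw [← pow_succ', Nat.sub_add_cancel (Fact.out : r.Prime).one_lt.le, hAr]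
  -- the alternating form
  have hγ : ∀ u v : Fin d ⊕ Fin d → F,
      (S0766.sB d F).compl₁₂ (Matrix.toLin' (A - A ^ (r - 1))) (Matrix.toLin' (B - 1)) u v =
        S0766.sB d F (A *ᵥ u - A ^ (r - 1) *ᵥ u) (B *ᵥ v - v) := by
    intro u v
    rw [LinearMap.compl₁₂_apply, Matrix.toLin'_apply, Matrix.toLin'_apply, Matrix.sub_mulVec,
      Matrix.sub_mulVec, Matrix.one_mulVec]
  have hγalt : ((S0766.sB d F).compl₁₂ (Matrix.toLin' (A - A ^ (r - 1)))
      (Matrix.toLin' (B - 1))).IsAlt := by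
    intro u
    rw [hγ, map_sub (S0766.sB d F) (A *ᵥ u) (A ^ (r - 1) *ᵥ u), LinearMap.sub_apply]
    have h1 : S0766.sB d F (A ^ (r - 1) *ᵥ u) (B *ᵥ u - u) =
        S0766.sB d F u (B *ᵥ (A *ᵥ u) - A *ᵥ u) := by
      have h2 := hinvA (A ^ (r - 1) *ᵥ u) u
      rw [Matrix.mulVec_mulVec, hAA', Matrix.one_mulVec] at h2
      exact h2.symm
    rw [h1, hsym u (A *ᵥ u)]
    exact sub_self _
  -- injectivity of T = A - A⁻¹
  obtain ⟨m, hm⟩ := (Fact.out : r.Prime).odd_of_ne_two hr2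
  have hXeq : (A ^ 2) ^ (m + 1) = A := by
    have h3 : 2 * (m + 1) = r + 1 := by omega
    rw [← pow_mul, h3, pow_succ, hAr, one_mul]
  have hTinj : ∀ u : Fin d ⊕ Fin d → F, Matrix.toLin' (A - A ^ (r - 1)) u = 0 → u = 0 := by
    intro u hu
    rw [Matrix.toLin'_apply, Matrix.sub_mulVec, sub_eq_zero] at hu
    have h1 : (A ^ 2) *ᵥ u = u := by
      rw [pow_two, ← Matrix.mulVec_mulVec, hu, Matrix.mulVec_mulVec, hAA', Matrix.one_mulVec]
    have h2 := SpD4.pow_fixed (A ^ 2) u h1 (m + 1)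
    rw [hXeq] at h2
    exact hC u h2
  have hTL : ∀ x ∈ LinearMap.ker (Matrix.toLin' (B - 1)),
      Matrix.toLin' (A - A ^ (r - 1)) x ∈ LinearMap.ker (Matrix.toLin' (B - 1)) := by
    intro x hx
    rw [Matrix.toLin'_apply, Matrix.sub_mulVec]
    exact Submodule.sub_mem _ (hLinv x hx) (SpD1.pow_inv A _ hLinv (r - 1) x hx)
  have hTLsurj : Function.Surjective ((Matrix.toLin' (A - A ^ (r - 1))).restrict hTL) := by
    apply LinearMap.injective_iff_surjective.1
    rw [← LinearMap.ker_eq_bot, Submodule.eq_bot_iff]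
    intro x hx
    rw [LinearMap.mem_ker] at hx
    have h1 : Matrix.toLin' (A - A ^ (r - 1)) (x : Fin d ⊕ Fin d → F) = 0 := by
      have h2 := congrArg Subtype.val hx
      exact h2
    exact Subtype.ext (hTinj _ h1)
  -- L is its own orthogonal
  have hLorth : LinearMap.ker (Matrix.toLin' (B - 1)) =
      (S0766.sB d F).orthogonal (LinearMap.range (Matrix.toLin' (B - 1))) := by
    apply Submodule.eq_of_le_of_finrank_le
    · intro l hl
      rw [LinearMap.BilinForm.mem_orthogonal_iff]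
      rintro _ ⟨u, rfl⟩
      show S0766.sB d F (Matrix.toLin' (B - 1) u) l = 0
      rw [Matrix.toLin'_apply, Matrix.sub_mulVec, Matrix.one_mulVec]
      exact hperp u l ((SpE1.mem_ker_iff B l).1 hl)
    · rw [LinearMap.BilinForm.finrank_orthogonal (S0766.sB_nondeg d F), SpD3.finrank_V, hRd, hLd]
      omega
  obtain ⟨Y, hY⟩ := Submodule.exists_isCompl (LinearMap.ker (Matrix.toLin' (B - 1)))
  have hYd : Module.finrank F Y = d := by
    have h1 := Submodule.finrank_add_eq_of_isCompl hY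
    rw [SpD3.finrank_V] at h1
    omega
  have hnd : ∀ y ∈ Y, y ≠ 0 → ∃ w ∈ Y,
      (S0766.sB d F).compl₁₂ (Matrix.toLin' (A - A ^ (r - 1))) (Matrix.toLin' (B - 1)) y w ≠ 0 := by
    intro y hy hy0
    by_contra hcon
    push Not at hcon
    apply hy0
    have h1 : ∀ v : Fin d ⊕ Fin d → F,
        S0766.sB d F (A *ᵥ y - A ^ (r - 1) *ᵥ y) (B *ᵥ v - v) = 0 := by
      intro v
      have hv : v ∈ LinearMap.ker (Matrix.toLin' (B - 1)) ⊔ Y := by
        rw [hY.sup_eq_top]
        trivial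
      obtain ⟨l, hl, w, hw, rfl⟩ := Submodule.mem_sup.1 hv
      have hl' : B *ᵥ l = l := (SpE1.mem_ker_iff B l).1 hl
      have h2 : B *ᵥ (l + w) - (l + w) = B *ᵥ w - w := by
        rw [Matrix.mulVec_add, hl']
        abel
      rw [h2, ← hγ]
      exact hcon w hw
    have h2 : A *ᵥ y - A ^ (r - 1) *ᵥ y ∈ LinearMap.ker (Matrix.toLin' (B - 1)) := by
      rw [hLorth, LinearMap.BilinForm.mem_orthogonal_iff]
      rintro _ ⟨u, rfl⟩
      show S0766.sB d F (Matrix.toLin' (B - 1) u) (A *ᵥ y - A ^ (r - 1) *ᵥ y) = 0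
      rw [Matrix.toLin'_apply, Matrix.sub_mulVec, Matrix.one_mulVec, skew, h1 u, neg_zero]
    obtain ⟨l, hl⟩ := hTLsurj ⟨A *ᵥ y - A ^ (r - 1) *ᵥ y, h2⟩
    have h3 : Matrix.toLin' (A - A ^ (r - 1)) (l : Fin d ⊕ Fin d → F) =
        A *ᵥ y - A ^ (r - 1) *ᵥ y := congrArg Subtype.val hl
    have h4 : Matrix.toLin' (A - A ^ (r - 1)) (y - (l : Fin d ⊕ Fin d → F)) = 0 := by
      rw [map_sub, h3, Matrix.toLin'_apply, Matrix.sub_mulVec, sub_self]
    have h5 := hTinj _ h4
    have h6 : y = (l : Fin d ⊕ Fin d → F) := sub_eq_zero.1 h5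
    have h7 : y ∈ LinearMap.ker (Matrix.toLin' (B - 1)) ⊓ Y := ⟨by rw [h6]; exact l.2, hy⟩
    rw [hY.inf_eq_bot, Submodule.mem_bot] at h7
    exact h7
  have heven := SpE1.even_finrank _ hγalt Y hnd
  rw [hYd] at heven
  exact (Nat.not_even_iff_odd.2 hodd) heven

/-- Commuting symplectic matrices of orders `r` (odd prime, not the characteristic) and `p`
force `η(k) + 1 ≤ d`, where `k` is the order of `q` modulo `r`. -/
theorem main (p : ℕ) [Fact p.Prime] [CharP F p] (hd : 2 ≤ d)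
    (A B : Matrix (Fin d ⊕ Fin d) (Fin d ⊕ Fin d) F)
    (hA : ∀ u v, Cfsg.sympForm d F (A *ᵥ u) (A *ᵥ v) = Cfsg.sympForm d F u v)
    (hB : ∀ u v, Cfsg.sympForm d F (B *ᵥ u) (B *ᵥ v) = Cfsg.sympForm d F u v)
    (hAB : A * B = B * A) (r : ℕ) [Fact r.Prime] (hr2 : r ≠ 2) (hrF : (r : F) ≠ 0)
    (hAr : A ^ r = 1) (hA1 : A ≠ 1) (hBp : B ^ p = 1) (hB1 : B ≠ 1) :
    (Odd (orderOf ((Fintype.card F : ℕ) : ZMod r)) →
      orderOf ((Fintype.card F : ℕ) : ZMod r) + 1 ≤ d) ∧
    (Even (orderOf ((Fintype.card F : ℕ) : ZMod r)) →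
      orderOf ((Fintype.card F : ℕ) : ZMod r) + 2 ≤ 2 * d) := by
  classical
  have hrn := LinearMap.finrank_range_add_finrank_ker (Matrix.toLin' (A - 1))
  rw [SpD3.finrank_V] at hrn
  have hMne : Module.finrank F (LinearMap.range (Matrix.toLin' (A - 1))) ≠ 0 := by
    intro h0
    apply hA1
    have h1 : Matrix.toLin' (A - 1) = 0 :=
      LinearMap.range_eq_bot.1 (Submodule.finrank_eq_zero.1 h0)
    have h2 : A - 1 = 0 := (LinearEquiv.map_eq_zero_iff Matrix.toLin').1 h1
    exact sub_eq_zero.1 h2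
  have hMeven := SpE1.even_finrank (S0766.sB d F) (S0766.sB_alt d F) _
    (SpE1.nondeg_range d A hA r hrF hAr)
  have hCeven := SpE1.even_finrank (S0766.sB d F) (S0766.sB_alt d F) _
    (SpE1.nondeg_ker d A hA r hrF hAr)
  have hkM := SpE1.k_dvd A r hAr _ (SpE1.comm_range A A rfl) (SpE1.range_fix A r hrF hAr)
  obtain ⟨eM, heM⟩ := hMeven
  obtain ⟨eC, heC⟩ := hCeven
  have hkpos : 0 < orderOf ((Fintype.card F : ℕ) : ZMod r) :=
    Nat.pos_of_dvd_of_pos hkM (Nat.pos_of_ne_zero hMne)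
  by_cases hC0 : Module.finrank F (LinearMap.ker (Matrix.toLin' (A - 1))) = 0
  · have hCbot := Submodule.finrank_eq_zero.1 hC0
    have hC : ∀ v, A *ᵥ v = v → v = 0 := by
      intro v hv
      have h1 := (SpE1.mem_ker_iff A v).2 hv
      rw [hCbot, Submodule.mem_bot] at h1
      exact h1
    have hk2d : orderOf ((Fintype.card F : ℕ) : ZMod r) ∣ 2 * d := by
      have h1 : Module.finrank F (LinearMap.range (Matrix.toLin' (A - 1))) = 2 * d := by omega
      rw [h1] at hkM
      exact hkM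
    -- the kernel of B - 1
    have htop : (⊤ : Submodule F (Fin d ⊕ Fin d → F)) ≠ ⊥ := by
      intro h
      have h1 := congrArg (fun S : Submodule F (Fin d ⊕ Fin d → F) => Module.finrank F S) h
      simp only [finrank_top, finrank_bot, SpD3.finrank_V] at h1
      omega
    have hL0 : LinearMap.ker (Matrix.toLin' (B - 1)) ≠ ⊥ := by
      obtain ⟨w, -, hw0, hw⟩ := SpE1.fixed_vec p B hBp ⊤ (fun v _ => trivial) htop
      intro h
      have h1 : w ∈ LinearMap.ker (Matrix.toLin' (B - 1)) := (SpE1.mem_ker_iff B w).2 hw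
      rw [h, Submodule.mem_bot] at h1
      exact hw0 h1
    have hLtop : LinearMap.ker (Matrix.toLin' (B - 1)) ≠ ⊤ := by
      intro h
      apply hB1
      have h1 : Matrix.toLin' (B - 1) = 0 := LinearMap.ker_eq_top.1 h
      have h2 : B - 1 = 0 := (LinearEquiv.map_eq_zero_iff Matrix.toLin').1 h1
      exact sub_eq_zero.1 h2
    have hkL := SpE1.k_dvd A r hAr _ (SpE1.comm_ker B A hAB.symm) (fun v _ hv => hC v hv)
    have hLpos : 0 < Module.finrank F (LinearMap.ker (Matrix.toLin' (B - 1))) :=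
      Nat.pos_of_ne_zero (fun h => hL0 (Submodule.finrank_eq_zero.1 h))
    have hLlt : Module.finrank F (LinearMap.ker (Matrix.toLin' (B - 1))) < 2 * d := by
      by_contra hge
      push Not at hge
      apply hLtop
      apply Submodule.eq_top_of_finrank_eq
      rw [SpD3.finrank_V]
      have h1 := Submodule.finrank_le (LinearMap.ker (Matrix.toLin' (B - 1)))
      rw [SpD3.finrank_V] at h1
      omega
    have hkle : orderOf ((Fintype.card F : ℕ) : ZMod r) ≤
        Module.finrank F (LinearMap.ker (Matrix.toLin' (B - 1))) := Nat.le_of_dvd hLpos hkL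
    have hkle2 : orderOf ((Fintype.card F : ℕ) : ZMod r) ≤
        2 * d - Module.finrank F (LinearMap.ker (Matrix.toLin' (B - 1))) :=
      Nat.le_of_dvd (by omega) (Nat.dvd_sub hk2d hkL)
    constructor
    · intro hodd
      have hkd : orderOf ((Fintype.card F : ℕ) : ZMod r) ∣ d :=
        (Nat.Coprime.dvd_of_dvd_mul_left (Nat.coprime_two_right.2 hodd) hk2d)
      obtain ⟨t, ht⟩ := hkd
      by_cases ht1 : t = 1
      · exfalso
        rw [ht1, Nat.mul_one] at ht
        exact hard_case d p A B hA hB hAB r hr2 hAr hBp hB1 hC ht.symm (by rw [ht]; exact hodd)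
      · have ht2 : 2 ≤ t := by
          rcases Nat.lt_or_ge t 1 with h | h
          · rw [Nat.lt_one_iff.1 h, Nat.mul_zero] at ht
            omega
          · omega
        have h3 := Nat.mul_le_mul_left (orderOf ((Fintype.card F : ℕ) : ZMod r)) ht2
        rw [← ht] at h3
        omega
    · intro _
      omega
  · have hM2 : Module.finrank F (LinearMap.range (Matrix.toLin' (A - 1))) + 2 ≤ 2 * d := by omega
    constructor
    · intro hodd
      have h1 : orderOf ((Fintype.card F : ℕ) : ZMod r) * 2 ∣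
          Module.finrank F (LinearMap.range (Matrix.toLin' (A - 1))) :=
        Nat.Coprime.mul_dvd_of_dvd_of_dvd (Nat.coprime_two_right.2 hodd) hkM
          ⟨eM, by omega⟩
      have h2 := Nat.le_of_dvd (Nat.pos_of_ne_zero hMne) h1
      omega
    · intro _
      have h2 := Nat.le_of_dvd (Nat.pos_of_ne_zero hMne) hkM
      omega

end Cfsg.Agent.Helper27.SpE2
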